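import Cfsg.Agent.MaxSub.BinaryPSL.Uni

/-!
The binary coset actions.
-/

set_option autoImplicit false

namespace Cfsg.Agent.MaxSub.BinaryPSL

open Matrix
open scoped MatrixGroups
open Cfsg.Agent.PLocalB (upper lower)
open Cfsg.Agent.Dickson (PSL2)

theorem binary_bot {G : Type*} [Group G] : Binary (⊥ : Subgroup G) :=
  binary_of_ti (fun _ c hc h1 _ => absurd (Subgroup.mem_bot.1 hc) h1)
    fun _ _ c _ _ hc _ _ _ h1 => absurd (Subgroup.mem_bot.1 hc) h1

theorem binary_conj {G : Type*} [Group G] {H H' : Subgroup G} (c : G)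
    (h : ∀ x, x ∈ H' ↔ c⁻¹ * x * c ∈ H) (hb : Binary H) : Binary H' := by
  intro n I J hn hp
  choose x hx using fun i => QuotientGroup.mk_surjective (I i)
  choose y hy using fun i => QuotientGroup.mk_surjective (J i)
  have key : ∀ (g : G) i, g • I i = J i ↔
      g • (QuotientGroup.mk (x i * c) : G ⧸ H) = QuotientGroup.mk (y i * c) := by
    intro g i
    rw [← hx i, ← hy i, eq_comm, MulAction.Quotient.smul_mk, QuotientGroup.eq, h, eq_comm,
      MulAction.Quotient.smul_mk, QuotientGroup.eq]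
    simp [mul_assoc]
  obtain ⟨g, hg⟩ := hb n _ _ hn fun i j hij => (hp i j hij).imp fun g hg =>
    ⟨(key g i).1 hg.1, (key g j).1 hg.2⟩
  exact ⟨g, fun i => (key g i).2 (hg i)⟩

variable {F : Type*} [Field F]

theorem inU_iff_upper {U : Subgroup (PSL2 F)} (hU : ∀ y, y ∈ U ↔ InU y) (r : F) :
    mk (upper r) ∈ U := (hU _).2 ⟨r, rfl⟩

theorem binary_uni [CharP F 2] {U : Subgroup (PSL2 F)} (hU : ∀ y, y ∈ U ↔ InU y) : Binary U := by
  have hneg : ∀ A : SL(2, F), -A = A := fun A => by
    ext i j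
    simp [Matrix.SpecialLinearGroup.coe_neg, CharTwo.neg_eq]
  have hlift : ∀ A B : SL(2, F), mk A = mk B → A = B := fun A B h => by
    rcases Dickson.mk_eq_mk_iff.1 h with e | e
    · exact e
    · rw [e, hneg]
  have hne : ∀ r : F, mk (upper r) ≠ 1 → r ≠ 0 := fun r h e => h (by rw [e, PLocalB.upper_zero]; rfl)
  have hnorm : ∀ (X : SL(2, F)), X 1 0 = 0 → ∀ y, y ∈ U → mk X * y * (mk X)⁻¹ ∈ U := by
    intro X hX y hy
    obtain ⟨r, rfl⟩ := (hU y).1 hy
    rw [← mk_conj, upper_conj X hX]
    exact inU_iff_upper hU _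
  have hup : ∀ (X : SL(2, F)), X 1 0 = 0 → ∀ y, y ∈ U ↔ (mk X)⁻¹ * y * mk X ∈ U := by
    intro X hX y
    refine ⟨fun hy => ?_, fun hy => ?_⟩
    · have h10 : (X⁻¹ : SL(2, F)) 1 0 = 0 := by
        rw [Matrix.SpecialLinearGroup.coe_inv, Matrix.adjugate_fin_two]; simp [hX]
      simpa [mk_inv, mul_assoc] using hnorm _ h10 y hy
    · simpa [mul_assoc] using hnorm X hX _ hy
  refine binary_of_ti (fun x c hc hc1 hxc => ?_) fun x y c a b hc ha hb e hc1 ha1 hb1 => ?_
  · obtain ⟨X, rfl⟩ := QuotientGroup.mk_surjective x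
    obtain ⟨r, rfl⟩ := (hU c).1 hc
    obtain ⟨s, hs⟩ := (hU _).1 hxc
    have hs0 : s ≠ 0 := by
      rintro rfl
      rw [PLocalB.upper_zero] at hs
      apply hc1
      have := congrArg (fun z => mk X * z * (mk X)⁻¹) hs
      rw [show mk X * ((mk X)⁻¹ * mk (upper r) * mk X) * (mk X)⁻¹ = mk (upper r) by group] at this
      rw [this]
      change mk X * 1 * (mk X)⁻¹ = 1
      group
    have e : upper r * X = X * upper s := hlift _ _ (by
      rw [mk_mul, mk_mul, ← hs]; group)
    have h11 := congrArg (fun M : SL(2, F) => M 1 1) e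
    simp [Matrix.mul_apply, Fin.sum_univ_two] at h11
    exact hup X (h11.resolve_right hs0)
  · obtain ⟨X, rfl⟩ := QuotientGroup.mk_surjective x
    obtain ⟨r, rfl⟩ := (hU c).1 hc
    obtain ⟨s, hs⟩ := (hU _).1 ha
    have hae : a = mk (X * upper s * X⁻¹) := by
      rw [mk_conj, ← hs]; group
    have hinv2 : ∀ t : F, mk (upper t) * mk (upper t) = 1 := fun t => by
      rw [← mk_mul, PLocalB.upper_mul, CharTwo.add_self_eq_zero, PLocalB.upper_zero]; rfl
    have haa : a * a = 1 := by
      rw [hae, ← mk_mul, show X * upper s * X⁻¹ * (X * upper s * X⁻¹) = X * (upper s * upper s) * X⁻¹ by group,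
        PLocalB.upper_mul, CharTwo.add_self_eq_zero, PLocalB.upper_zero, mul_one, mul_inv_cancel]
      rfl
    have hbb : b * b = 1 := by
      obtain ⟨t, ht⟩ := (hU _).1 hb
      rw [show b = y * mk (upper t) * y⁻¹ by rw [← ht]; group,
        show y * mk (upper t) * y⁻¹ * (y * mk (upper t) * y⁻¹) = y * (mk (upper t) * mk (upper t)) * y⁻¹ by group,
        hinv2, mul_one, mul_inv_cancel]
    have hba : b * a = a * b := by
      have h1 : a * b * (a * b) = 1 := by rw [← e]; exact hinv2 r
      calc b * a = a * a * (b * a) * (b * b) := by rw [haa, hbb, one_mul, mul_one]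
        _ = a * (a * b * (a * b)) * b := by group
        _ = a * b := by rw [h1, mul_one]
    have hca : mk (upper r) * a = a * mk (upper r) := by
      rw [e, mul_assoc, hba]
    have hX : X 1 0 = 0 := by
      have hs0 : s ≠ 0 := by
        rintro rfl
        exact ha1 (by rw [hae, PLocalB.upper_zero, mul_one, mul_inv_cancel]; rfl)
      rw [hae] at hca
      have e2 := hlift (upper r * (X * upper s * X⁻¹)) ((X * upper s * X⁻¹) * upper r) hca
      have h00 := congrArg (fun M : SL(2, F) => M 0 0) e2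
      simp [Matrix.mul_apply, Fin.sum_univ_two, Matrix.SpecialLinearGroup.coe_inv,
        Matrix.adjugate_fin_two] at h00
      have hr0 := hne r hc1
      have h1 : s * (X 1 0 * X 1 0) = 0 := by linear_combination -(h00.resolve_left hr0)
      simpa [hs0] using h1
    exact (hup X hX _).1 hc

variable [Fintype F]

theorem eq_of_traces [CharP F 2] (hw : ∀ w : F, w ^ 2 + w + 1 ≠ 0) (A B : SL(2, F))
    (hA : (A : Matrix (Fin 2) (Fin 2) F).trace = 1) (hB : (B : Matrix (Fin 2) (Fin 2) F).trace = 1)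
    (hAB : ((A * B : SL(2, F)) : Matrix (Fin 2) (Fin 2) F).trace = 1) : A = B := by
  have h2 : (2 : F) = 0 := CharTwo.two_eq_zero
  obtain ⟨A₀, hA₀⟩ : ∃ A₀ : SL(2, F), (A₀ : Matrix (Fin 2) (Fin 2) F) = !![0, 1; 1, 1] :=
    ⟨⟨_, by rw [det_fin_two_of]; linear_combination -h2⟩, rfl⟩
  obtain ⟨x, hx⟩ := exists_conj (A := A) (B := A₀)
    (by rw [hA, hA₀, trace_fin_two_of, zero_add]) (by
      rw [hA, one_pow]
      intro e
      apply one_ne_zero (α := F)
      linear_combination e + 2 * h2)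
  suffices h : x * B * x⁻¹ = A₀ by
    exact mul_left_cancel (a := x) (mul_right_cancel (b := x⁻¹) (hx.trans h.symm))
  set C := x * B * x⁻¹ with hC
  have hCt : C 0 0 + C 1 1 = 1 := by rw [← trace_fin_two, hC, SL2Tor.trace_conj, hB]
  have hprod : ((A₀ * C : SL(2, F)) : Matrix (Fin 2) (Fin 2) F).trace = 1 := by
    rw [← hx, hC, show x * A * x⁻¹ * (x * B * x⁻¹) = x * (A * B) * x⁻¹ by group, SL2Tor.trace_conj,
      hAB]
  simp [Matrix.mul_apply, Matrix.vecMul, dotProduct, Fin.sum_univ_two, hA₀, trace_fin_two] at hprod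
  have hd := (det_fin_two _).symm.trans C.2
  have h11 : C 1 1 = 1 - C 0 0 := by linear_combination hCt
  rw [h11] at hprod hd
  have hp : C 0 0 = C 1 0 + C 0 1 := by linear_combination -hprod
  rw [hp] at hd
  set u := C 0 1 + 1
  set v := C 1 0 + 1
  have hq : u ^ 2 + u * v + v ^ 2 = 0 := by
    simp only [u, v]
    linear_combination -hd + (2 * C 0 1 + 2 * C 1 0 + 1 - C 0 1 * C 1 0) * h2
  have hv : v = 0 := by
    by_contra hv
    refine hw (u / v) ?_
    field_simp
    linear_combination hq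
  have hu : u = 0 := by
    rw [hv] at hq
    exact pow_eq_zero_iff two_ne_zero |>.1 (show u ^ 2 = 0 by linear_combination hq)
  have e01 : C 0 1 = 1 := by simp only [u] at hu; linear_combination hu - h2
  have e10 : C 1 0 = 1 := by simp only [v] at hv; linear_combination hv - h2
  ext i j
  fin_cases i <;> fin_cases j <;> simp [hA₀, e01, e10]
  · rw [hp, e01, e10]; linear_combination h2
  · rw [h11, hp, e01, e10]; linear_combination -h2

theorem binary_three [CharP F 2] (hw : ∀ w : F, w ^ 2 + w + 1 ≠ 0) {H : Subgroup (PSL2 F)}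
    (hH : Nat.card H = 3) (htr : ∀ g : PSL2 F, orderOf g = 3 →
      ∃ A : SL(2, F), mk A = g ∧ (A : Matrix (Fin 2) (Fin 2) F).trace = 1) : Binary H := by
  haveI : Fact (Nat.Prime 3) := ⟨Nat.prime_three⟩
  have hord : ∀ y ∈ H, y ≠ 1 → orderOf y = 3 := fun y hy h1 => by
    have h := orderOf_dvd_natCard (⟨y, hy⟩ : H)
    rw [Subgroup.orderOf_mk, hH] at h
    exact ((Nat.dvd_prime Nat.prime_three).1 h).resolve_left (by rwa [orderOf_eq_one_iff])
  have hconj : ∀ (x : PSL2 F) y, orderOf (x⁻¹ * y * x) = orderOf y := fun x y => by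
    have h := orderOf_injective (MulAut.conj x⁻¹).toMonoidHom (MulAut.conj x⁻¹).injective y
    simpa using h
  have hgen : ∀ c ∈ H, c ≠ 1 → Subgroup.zpowers c = H := fun c hc h1 =>
    Subgroup.eq_of_le_of_card_ge (by simpa using hc) (by rw [Nat.card_zpowers, hord c hc h1, hH])
  refine binary_of_ti (fun x c hc hc1 hxc y => ?_) fun x y c a b hc ha hb e hc1 ha1 hb1 => ?_
  · set d := x⁻¹ * c * x with hd
    have hd1 : d ≠ 1 := fun h => hc1 (by simpa [hd, mul_assoc] using congrArg (fun z => x * z * x⁻¹) h)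
    constructor
    · intro hy
      rw [← hgen c hc hc1] at hy
      obtain ⟨i, rfl⟩ := hy
      have : x⁻¹ * c ^ i * x = d ^ i := by
        have := conj_zpow (i := i) (a := x⁻¹) (b := c)
        rw [inv_inv] at this
        rw [hd, this]
      rw [this]; exact zpow_mem hxc i
    · intro hy
      rw [← hgen d hxc hd1] at hy
      obtain ⟨i, hi⟩ := hy
      have : y = c ^ i := by
        have h1 : x⁻¹ * c ^ i * x = d ^ i := by
          have := conj_zpow (i := i) (a := x⁻¹) (b := c)
          rw [inv_inv] at this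
          rw [hd, this]
        simp only at hi
        rw [← h1] at hi
        simpa [mul_assoc] using hi.symm
      rw [this]; exact zpow_mem hc i
  · have hao : orderOf a = 3 := by
      rw [← hconj x a]
      exact hord _ ha fun h => ha1 (by simpa [mul_assoc] using congrArg (fun z => x * z * x⁻¹) h)
    have hbo : orderOf b = 3 := by
      rw [← hconj y b]
      exact hord _ hb fun h => hb1 (by simpa [mul_assoc] using congrArg (fun z => y * z * y⁻¹) h)
    obtain ⟨A, hA, hA1⟩ := htr a⁻¹ (by rw [orderOf_inv, hao])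
    obtain ⟨C, hC, hC1⟩ := htr c (hord c hc hc1)
    obtain ⟨B, hB, hB1⟩ := htr b hbo
    have hprod : A * C = B := by
      have h : mk (A * C) = mk B := by rw [mk_mul, hA, hC, hB, e, inv_mul_cancel_left]
      rcases Dickson.mk_eq_mk_iff.1 h with e' | e'
      · exact e'
      · rw [e']; ext i j; simp [Matrix.SpecialLinearGroup.coe_neg, CharTwo.neg_eq]
    have := eq_of_traces hw A C hA1 hC1 (by rw [hprod, hB1])
    rw [← hC, ← this, hA]
    simpa [mul_assoc] using inv_mem ha

end Cfsg.Agent.MaxSub.BinaryPSL
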