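import Cfsg.Agent.MaxSub.BinaryPSL.Inv
import Cfsg.Agent.MaxSub.BinaryPSL.Pos

/-!
Binary coset actions of `PSL₂(F)`.
-/

set_option autoImplicit false

namespace Cfsg.Agent.MaxSub.BinaryPSL

open Matrix
open scoped MatrixGroups
open Cfsg.Agent.PLocalB (upper lower)
open Cfsg.Agent.Dickson (PSL2)

variable {F : Type*} [Field F] [Fintype F]

theorem exists_sylow_inU (p : ℕ) [Fact p.Prime] [CharP F p] (hq : 4 ≤ Fintype.card F) :
    ∃ Q : Sylow p (PSL2 F), ∀ y, y ∈ (Q : Subgroup (PSL2 F)) ↔ InU y := by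
  let φ : Multiplicative F →* PSL2 F := MonoidHom.mk' (fun r => mk (upper (Multiplicative.toAdd r)))
    fun a b => by rw [← mk_mul, PLocalB.upper_mul]; rfl
  have hpow : ∀ r : F, mk (upper r) ^ p = 1 := fun r => by
    rw [← QuotientGroup.mk_pow, PLocalB.upper_pow, CharP.cast_eq_zero, zero_mul, PLocalB.upper_zero]
    rfl
  have hU : IsPGroup p φ.range := by
    rintro ⟨y, r, rfl⟩
    exact ⟨1, Subtype.ext (by simpa [φ] using hpow (Multiplicative.toAdd r))⟩
  obtain ⟨Q, hQ⟩ := hU.exists_le_sylow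
  refine ⟨Q, fun y => ⟨fun hy => ?_, ?_⟩⟩
  swap
  · rintro ⟨r, rfl⟩
    exact hQ ⟨Multiplicative.ofAdd r, rfl⟩
  have hUQ : ∀ r, mk (upper r) ∈ (Q : Subgroup (PSL2 F)) := fun r => hQ ⟨Multiplicative.ofAdd r, rfl⟩
  have hup : Up y := by
    by_contra hy'
    have htop := top_of_upper hUQ hy hy'
    have hp : IsPGroup p (PSL2 F) := fun g => by
      obtain ⟨k, hk⟩ := Q.2 ⟨g, htop ▸ Subgroup.mem_top g⟩
      exact ⟨k, by simpa using congrArg Subtype.val hk⟩
    haveI : IsSimpleGroup (PSL2 F) :=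
      Matrix.ProjectiveSpecialLinearGroup.rank_two_simple (by rwa [Nat.card_eq_fintype_card])
    haveI := hp.center_nontrivial
    have hc : Subgroup.center (PSL2 F) = ⊤ :=
      (IsSimpleGroup.eq_bot_or_eq_top_of_normal _ inferInstance).resolve_left
        fun e => (Subgroup.nontrivial_iff_ne_bot _).1 inferInstance e
    have hcomm : mk (upper (1 : F)) * mk (lower (1 : F)) = mk (lower (1 : F)) * mk (upper (1 : F)) :=
      Subgroup.mem_center_iff.1 (hc ▸ Subgroup.mem_top (mk (lower (1 : F)))) _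
    rcases Dickson.mk_eq_mk_iff.1 hcomm with e | e
    · have h := congrArg (fun M : SL(2, F) => M 0 0) e
      simp [Matrix.mul_apply, Fin.sum_univ_two] at h
    · have h := congrArg (fun M : SL(2, F) => M 0 1) e
      have h' := congrArg (fun M : SL(2, F) => M 0 0) e
      simp [Matrix.mul_apply, Fin.sum_univ_two] at h h'
      exact one_ne_zero (α := F) (by linear_combination h' - h)
  obtain ⟨Y, rfl, hY⟩ := hup
  refine inU_of_diag hY ?_
  obtain ⟨k, hk⟩ := Q.2 ⟨_, hy⟩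
  have hk' : mk Y ^ p ^ k = 1 := by simpa using congrArg Subtype.val hk
  obtain ⟨-, h00⟩ := Dickson.upper_tri_pow Y hY (p ^ k)
  have hsq : ((Y ^ p ^ k) 0 0) ^ 2 = 1 := by
    rcases mk_eq_one_iff.1 ((QuotientGroup.mk_pow (Subgroup.center SL(2, F)) Y (p ^ k)).trans hk') with e | e <;>
      rw [e] <;> simp
  rw [h00, ← pow_mul, mul_comm, pow_mul] at hsq
  haveI := ExpChar.prime (R := F) (Fact.out : p.Prime)
  have h0 : (Y 0 0 ^ 2 - 1) ^ p ^ k = 0 := by
    rw [sub_pow_char_pow, hsq, one_pow, sub_self]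
  exact sub_eq_zero.1 (pow_eq_zero_iff (pow_ne_zero k (Fact.out : p.Prime).ne_zero) |>.1 h0)

theorem exists_root_of_three_dvd (h : 3 ∣ Fintype.card F - 1) : ∃ w : F, w ^ 2 + w + 1 = 0 := by
  classical
  haveI : Fact (Nat.Prime 3) := ⟨Nat.prime_three⟩
  have hc : Nat.card Fˣ = Fintype.card F - 1 := by
    rw [Nat.card_eq_fintype_card, Fintype.card_units]
  obtain ⟨u, hu⟩ := exists_prime_orderOf_dvd_card' (G := Fˣ) 3 (hc.symm ▸ h)
  refine ⟨(u : F), ?_⟩
  have h3 : (u : F) ^ 3 = 1 := by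
    have := congrArg Units.val (hu ▸ pow_orderOf_eq_one u)
    simpa using this
  have hne : (u : F) - 1 ≠ 0 := fun e => by
    rw [sub_eq_zero, Units.val_eq_one] at e
    rw [e, orderOf_one] at hu
    omega
  exact (mul_eq_zero.1 (show ((u : F) - 1) * ((u : F) ^ 2 + (u : F) + 1) = 0 by
    linear_combination h3)).resolve_left hne

theorem no_root_of_odd {a : ℕ} (ha : Odd a) (hF : Fintype.card F = 2 ^ a) [CharP F 2] :
    ∀ w : F, w ^ 2 + w + 1 ≠ 0 := by
  intro w hw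
  have hw0 : w ≠ 0 := fun e => by rw [e] at hw; simp at hw
  have h3 : w ^ 3 = 1 := by linear_combination (w - 1) * hw
  have hw1 : w ≠ 1 := fun e => by
    rw [e] at hw
    exact one_ne_zero (α := F) (by linear_combination hw - (CharTwo.two_eq_zero (R := F)))
  haveI : Fact (Nat.Prime 3) := ⟨Nat.prime_three⟩
  have ho : orderOf w = 3 := orderOf_eq_prime h3 hw1
  have h1 : orderOf w ∣ Fintype.card F - 1 :=
    orderOf_dvd_of_pow_eq_one (FiniteField.pow_card_sub_one_eq_one w hw0)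
  rw [ho, hF] at h1
  obtain ⟨b, rfl⟩ := ha
  have : 2 ^ (2 * b + 1) % 3 = 2 := by
    rw [pow_succ, pow_mul, Nat.mul_mod, Nat.pow_mod]
    norm_num
  generalize 2 ^ (2 * b + 1) = N at this h1
  omega

theorem trace_one_of_three [CharP F 2] (g : PSL2 F) (h : orderOf g = 3) :
    ∃ A : SL(2, F), mk A = g ∧ (A : Matrix (Fin 2) (Fin 2) F).trace = 1 :=
  (Dickson.lift_three h).imp fun A hA =>
    ⟨hA.1, hA.2.trans (CharTwo.neg_eq 1)⟩

theorem iff_binary (h4 : 4 ≤ Fintype.card F) (h5 : Fintype.card F ≠ 5)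
    (H : Subgroup (PSL2 F)) (hH : H ≠ ⊤) :
    Binary H ↔
      (H = ⊥ ∨ ((∃ a : ℕ, Fintype.card F = 2 ^ a) ∧ ∃ P : Sylow 2 (PSL2 F), H = P) ∨
        ((∃ a : ℕ, Odd a ∧ Fintype.card F = 2 ^ a) ∧ Nat.card H = 3)) := by
  obtain ⟨p, hp⟩ := CharP.exists F
  obtain ⟨k, hpp, hqk⟩ := FiniteField.card F p
  haveI := Fact.mk hpp
  have hchar2 : ∀ a, Fintype.card F = 2 ^ a → p = 2 := fun a ha =>
    (Nat.prime_dvd_prime_iff_eq hpp Nat.prime_two).1 (hpp.dvd_of_dvd_pow (n := a)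
      (by rw [← ha, hqk]; exact dvd_pow_self p k.pos.ne'))
  constructor
  swap
  · rintro (rfl | ⟨⟨a, ha⟩, P, rfl⟩ | ⟨⟨a, hao, ha⟩, h3⟩)
    · exact binary_bot
    · obtain rfl := hchar2 a ha
      obtain ⟨Q, hQ⟩ := exists_sylow_inU 2 h4
      obtain ⟨c, rfl⟩ := MulAction.exists_smul_eq (PSL2 F) Q P
      refine binary_conj c (fun x => ?_) (binary_uni hQ)
      rw [Sylow.coe_subgroup_smul, Subgroup.mem_pointwise_smul_iff_inv_smul_mem, ← map_inv]
      simp [mul_assoc]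
    · obtain rfl := hchar2 a ha
      exact binary_three (no_root_of_odd hao ha) h3 trace_one_of_three
  intro hb
  by_cases hbot : H = ⊥
  · exact Or.inl hbot
  obtain ⟨Q, hQ⟩ := exists_sylow_inU p h4
  by_cases hpd : p ∣ Nat.card H
  · obtain ⟨g, hg⟩ := exists_prime_orderOf_dvd_card' (G := H) p hpd
    have hg' : orderOf (g : PSL2 F) = p := by rw [Subgroup.orderOf_coe, hg]
    obtain ⟨P, hP⟩ := (IsPGroup.of_card (p := p) (n := 1) (G := Subgroup.zpowers (g : PSL2 F))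
      (by rw [Nat.card_zpowers, hg', pow_one])).exists_le_sylow
    obtain ⟨c, hc⟩ := MulAction.exists_smul_eq (PSL2 F) P Q
    obtain ⟨s, hs⟩ : InU (c * (g : PSL2 F) * c⁻¹) := by
      rw [← hQ, ← hc, Sylow.coe_subgroup_smul, Subgroup.mem_pointwise_smul_iff_inv_smul_mem, ← map_inv]
      simpa [mul_assoc] using hP (Subgroup.mem_zpowers _)
    have hs0 : s ≠ 0 := by
      rintro rfl
      rw [PLocalB.upper_zero] at hs
      have : (g : PSL2 F) = 1 := conj_eq_one_iff.1 (hs.trans rfl)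
      rw [this, orderOf_one] at hg'
      exact hpp.ne_one hg'.symm
    set H' := H.map (MulAut.conj c).toMonoidHom with hH'
    have hmem' : ∀ x, x ∈ H' ↔ c⁻¹ * x * c ∈ H := fun x => by
      rw [hH', Subgroup.mem_map_equiv, MulAut.conj_symm_apply]
    have hb' : Binary H' := binary_conj c hmem' hb
    have hH'top : H' ≠ ⊤ := fun e => hH (eq_top_iff.2 fun y _ => by
      have := (hmem' (c * y * c⁻¹)).1 (e ▸ Subgroup.mem_top _)
      simpa [mul_assoc] using this)
    have hsH : mk (upper s) ∈ H' := by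
      rw [← hs, hmem']; simpa [mul_assoc] using g.2
    have hNB : ¬ ((∀ y ∈ H', Up y) ∧ ∃ A : SL(2, F), A 1 0 = 0 ∧ mk A ∈ H' ∧ A 0 0 ^ 2 ≠ 1) := by
      rintro ⟨hup, A, hA, hAm, hA1⟩
      exact not_binary_borel hup A hA hAm hA1 hb'
    have hU : ∀ y ∈ clo H' (mk (upper s)), InU y := fun y hy =>
      inU_clo h4 hH'top hs0 hsH hNB hy
    by_cases h2 : (2 : F) = 0
    swap
    · exact absurd hb' (not_binary_uni_odd h2 hs0 hsH hU)
    haveI : CharP F 2 := CharTwo.of_one_ne_zero_of_two_eq_zero one_ne_zero h2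
    obtain rfl : p = 2 := CharP.eq F hp inferInstance
    by_cases hall : ∀ r, mk (upper r) ∈ H'
    swap
    · exact absurd hb' (not_binary_uni_two hs0 hsH hU hall)
    have hup : ∀ y ∈ H', Up y := fun y hy => by
      by_contra h
      exact hH'top (top_of_upper hall hy h)
    have heq : ∀ y, y ∈ H' ↔ y ∈ (Q : Subgroup (PSL2 F)) := by
      intro y
      rw [hQ]
      refine ⟨fun hy => ?_, ?_⟩
      · obtain ⟨Y, rfl, hY⟩ := hup y hy
        refine inU_of_diag hY ?_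
        by_contra h1
        exact hNB ⟨hup, Y, hY, hy, h1⟩
      · rintro ⟨r, rfl⟩; exact hall r
    refine Or.inr (Or.inl ⟨⟨k, hqk⟩, c⁻¹ • Q, ?_⟩)
    ext x
    rw [Sylow.coe_subgroup_smul, Subgroup.mem_pointwise_smul_iff_inv_smul_mem, ← map_inv, inv_inv,
      ← heq, hmem']
    simp [mul_assoc]
  -- `H` has order prime to the characteristic
  by_cases hev : 2 ∣ Nat.card H
  · have hp2 : p ≠ 2 := fun e => hpd (e ▸ hev)
    have h20 : (2 : F) ≠ 0 := fun e => hp2 (by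
      haveI : CharP F 2 := CharTwo.of_one_ne_zero_of_two_eq_zero one_ne_zero e
      exact CharP.eq F hp inferInstance)
    have h7 : 7 ≤ Fintype.card F := by
      have hodd : Odd (Fintype.card F) := by rw [hqk]; exact (hpp.odd_of_ne_two hp2).pow
      obtain ⟨m, hm⟩ := hodd
      omega
    haveI : Fact (Nat.Prime 2) := ⟨Nat.prime_two⟩
    obtain ⟨g, hg⟩ := exists_prime_orderOf_dvd_card' (G := H) 2 hev
    exact absurd hb (not_binary_inv h20 h7 hH g.2 (by rw [Subgroup.orderOf_coe, hg]))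
  have hodd : Odd (Nat.card H) := Nat.not_even_iff_odd.1 (by rwa [even_iff_two_dvd])
  have hab := comm_of_odd p H hpd hodd
  -- every element has a regular semisimple lift
  have hlift : ∀ x ∈ H, x ≠ 1 → ∃ A : SL(2, F), mk A = x ∧
      (A : Matrix (Fin 2) (Fin 2) F).trace ^ 2 ≠ 4 ∧ (A : Matrix (Fin 2) (Fin 2) F).trace ≠ 0 := by
    intro x hx h1
    obtain ⟨A, rfl⟩ := QuotientGroup.mk_surjective x
    refine ⟨A, rfl, SL2Tor.trace_sq_ne_four p A (fun h => h1 ((SL2Tor.psl_mk_eq_one_iff A).2 h)) ?_,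
      SL2Tor.trace_ne_zero A ?_⟩
    · intro e
      exact hpd (e ▸ (Subgroup.orderOf_mk _ hx).symm ▸ orderOf_dvd_natCard (⟨_, hx⟩ : H))
    · have hd := orderOf_dvd_natCard (⟨_, hx⟩ : H)
      rw [Subgroup.orderOf_mk] at hd
      by_contra hle
      have hpos := (orderOf_pos (QuotientGroup.mk A : PSL2 F))
      have hne1 : orderOf (QuotientGroup.mk A : PSL2 F) ≠ 1 := fun h => h1 (orderOf_eq_one_iff.1 h)
      exact hev (by rwa [show orderOf (QuotientGroup.mk A : PSL2 F) = 2 by omega] at hd)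
  have key : ∀ A : SL(2, F), mk A ∈ H → (A : Matrix (Fin 2) (Fin 2) F).trace ^ 2 ≠ 4 →
      (A : Matrix (Fin 2) (Fin 2) F).trace ≠ 0 →
      ¬ ((A : Matrix (Fin 2) (Fin 2) F).trace ≠ -1 ∨ ∃ w : F, w ^ 2 + w + 1 = 0) := by
    intro A hA h4' h0 hw
    refine not_binary_semi A h4' hw (meets_of_mem hA) (fun y hy => ?_) hb
    obtain ⟨Y, rfl⟩ := QuotientGroup.mk_surjective y
    exact ⟨Y, rfl, commute_lift h0 (hab _ hA _ (clo_le hA hy))⟩
  obtain ⟨x₀, hx₀, hx₀1⟩ : ∃ x ∈ H, x ≠ 1 := by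
    by_contra h
    push Not at h
    exact hbot (Subgroup.eq_bot_iff_forall _ |>.2 h)
  obtain ⟨A, hA, hA4, hA0⟩ := hlift x₀ hx₀ hx₀1
  subst hA
  have h2 : (2 : F) = 0 := by
    by_contra h20
    have h1 := key A hx₀ hA4 hA0
    push Not at h1
    refine key (-A) (by rw [mk, SL2Tor.psl_mk_neg]; exact hx₀) (by rw [SL2Tor.trace_neg', neg_sq]; exact hA4)
      (by rw [SL2Tor.trace_neg']; simpa using hA0) (Or.inl ?_)
    rw [SL2Tor.trace_neg', h1.1, neg_neg]
    intro e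
    exact h20 (by linear_combination e)
  haveI : CharP F 2 := CharTwo.of_one_ne_zero_of_two_eq_zero one_ne_zero h2
  obtain rfl : p = 2 := CharP.eq F hp inferInstance
  have h1 := key A hx₀ hA4 hA0
  push Not at h1
  obtain ⟨hAt, hroot⟩ := h1
  refine Or.inr (Or.inr ⟨⟨k, ?_, hqk⟩, ?_⟩)
  · rcases Nat.even_or_odd (k : ℕ) with he | ho
    · exfalso
      obtain ⟨b, hb'⟩ := he
      have h3 : 3 ∣ Fintype.card F - 1 := by
        have : Fintype.card F % 3 = 1 := by
          rw [hqk, hb', ← two_mul, pow_mul, Nat.pow_mod]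
          norm_num
        omega
      obtain ⟨w, hw⟩ := exists_root_of_three_dvd h3
      exact hroot w hw
    · exact ho
  have hset : ∀ x ∈ H, x = 1 ∨ x = mk A ∨ x = (mk A)⁻¹ := by
    intro x hx
    by_cases hx1 : x = 1
    · exact Or.inl hx1
    obtain ⟨X, rfl, hX4, hX0⟩ := hlift x hx hx1
    have h1 := key X hx hX4 hX0
    push Not at h1
    rcases eq_or_inv_of_commute hA4 (h1.1.trans hAt.symm) (commute_lift hA0 (hab _ hx₀ _ hx)) with e | e
    · exact Or.inr (Or.inl (by rw [e]))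
    · exact Or.inr (Or.inr (by rw [e, ← mk_inv]))
  have hle : Nat.card H ≤ 3 := by
    classical
    have hsub : (H : Set (PSL2 F)) ⊆ ({1, mk A, (mk A)⁻¹} : Finset (PSL2 F)) := fun x hx => by
      simpa using hset x hx
    calc Nat.card H = (H : Set (PSL2 F)).ncard := (Nat.card_coe_set_eq _).symm ▸ rfl
      _ ≤ (({1, mk A, (mk A)⁻¹} : Finset (PSL2 F)) : Set (PSL2 F)).ncard := Set.ncard_le_ncard hsub (Finset.finite_toSet _)
      _ ≤ 3 := by rw [Set.ncard_coe_finset]; exact Finset.card_le_three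
  have h1lt : 1 < Nat.card H := (Subgroup.one_lt_card_iff_ne_bot H).2 hbot
  obtain ⟨m, hm⟩ := hodd
  omega

end Cfsg.Agent.MaxSub.BinaryPSL
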