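import Cfsg.Agent.MaxSub.BinaryPSL.Crit
import Cfsg.Agent.Lib.Dickson.Main
import Cfsg.Agent.SL2Tor.Core

/-!
Matrix facts on `PSL₂(F)` used for binary actions.
-/

set_option autoImplicit false

namespace Cfsg.Agent.MaxSub.BinaryPSL

open Matrix
open scoped MatrixGroups
open Cfsg.Agent.PLocalB (upper lower)
open Cfsg.Agent.Dickson (PSL2)

variable {F : Type*} [Field F]

/-- The image in `PSL₂(F)`. -/
abbrev mk (A : SL(2, F)) : PSL2 F := QuotientGroup.mk A

/-- Fixes the point at infinity. -/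
def Up (y : PSL2 F) : Prop := ∃ Y : SL(2, F), mk Y = y ∧ Y 1 0 = 0

theorem mk_mul (A B : SL(2, F)) : mk (A * B) = mk A * mk B := rfl

theorem mk_inv (A : SL(2, F)) : mk A⁻¹ = (mk A)⁻¹ := rfl

theorem mk_conj (A B : SL(2, F)) : mk (A * B * A⁻¹) = mk A * mk B * (mk A)⁻¹ := rfl

theorem mk_eq_one_iff {A : SL(2, F)} : mk A = 1 ↔ A = 1 ∨ A = -1 :=
  Dickson.mk_eq_mk_iff (B := 1)

/-- Coordinates in the algebra of `A`. -/
theorem exists_coords {A Y : SL(2, F)} (hA : ¬ SL2Tor.IsScalar (A : Matrix (Fin 2) (Fin 2) F))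
    (h : A * Y = Y * A) :
    ∃ x z : F, (Y : Matrix (Fin 2) (Fin 2) F) = x • 1 + z • (A : Matrix (Fin 2) (Fin 2) F) := by
  have h' := congrArg (fun M : SL(2, F) => (M : Matrix (Fin 2) (Fin 2) F)) h
  simp only [Matrix.SpecialLinearGroup.coe_mul] at h'
  have e00 := congrFun (congrFun h' 0) 0
  have e01 := congrFun (congrFun h' 0) 1
  have e10 := congrFun (congrFun h' 1) 0
  simp [Matrix.mul_apply, Fin.sum_univ_two] at e00 e01 e10
  unfold SL2Tor.IsScalar at hA
  by_cases h01 : A 0 1 = 0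
  · by_cases h10 : A 1 0 = 0
    · have hd : A 0 0 - A 1 1 ≠ 0 := fun e => hA ⟨h01, h10, sub_eq_zero.1 e⟩
      refine ⟨Y 0 0 - (Y 0 0 - Y 1 1) / (A 0 0 - A 1 1) * A 0 0, (Y 0 0 - Y 1 1) / (A 0 0 - A 1 1), ?_⟩
      rw [h01] at e01
      rw [h10] at e10
      ext i j
      fin_cases i <;> fin_cases j <;> simp [h01, h10]
      · exact mul_left_cancel₀ hd (by rw [mul_zero]; linear_combination e01)
      · exact mul_left_cancel₀ hd (by rw [mul_zero]; linear_combination -e10)
      · field_simp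
        ring
    · refine ⟨Y 0 0 - Y 1 0 / A 1 0 * A 0 0, Y 1 0 / A 1 0, ?_⟩
      ext i j
      fin_cases i <;> fin_cases j <;> simp
      · field_simp; linear_combination -e00
      · field_simp
      · field_simp; linear_combination -e10
  · refine ⟨Y 0 0 - Y 0 1 / A 0 1 * A 0 0, Y 0 1 / A 0 1, ?_⟩
    ext i j
    fin_cases i <;> fin_cases j <;> simp
    · field_simp
    · field_simp; linear_combination e00
    · field_simp; linear_combination e01

/-- Two non-commuting elements have only scalars in common centraliser. -/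
theorem mk_eq_one_of_commute {A B Y : SL(2, F)} (hne : A * B ≠ B * A) (hA : A * Y = Y * A)
    (hB : B * Y = Y * B) : mk Y = 1 := by
  have hns : ¬ SL2Tor.IsScalar (A : Matrix (Fin 2) (Fin 2) F) := fun h => hne
    ((Subgroup.mem_center_iff.1 ((SL2Tor.isScalar_iff_mem_center A).1 h) B).symm)
  obtain ⟨x, z, hY⟩ := exists_coords hns hA
  have hB' : (B : Matrix (Fin 2) (Fin 2) F) * Y = Y * B := by
    simpa using congrArg (fun M : SL(2, F) => (M : Matrix (Fin 2) (Fin 2) F)) hB
  have hz : z = 0 := by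
    by_contra hz
    refine hne (Subtype.ext ?_)
    simp only [Matrix.SpecialLinearGroup.coe_mul]
    rw [hY] at hB'
    simp only [Matrix.mul_add, Matrix.add_mul, Matrix.mul_smul, Matrix.smul_mul, Matrix.mul_one,
      Matrix.one_mul, add_right_inj] at hB'
    exact (smul_right_injective _ hz hB').symm
  rw [mk, SL2Tor.psl_mk_eq_one_iff, hY, hz]
  simp [SL2Tor.IsScalar]

/-- A semisimple element commutes in `SL₂` only with itself and its inverse among elements of the
same trace. -/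
theorem eq_or_inv_of_commute {A Y : SL(2, F)}
    (ht : (A : Matrix (Fin 2) (Fin 2) F).trace ^ 2 ≠ 4)
    (htr : (Y : Matrix (Fin 2) (Fin 2) F).trace = (A : Matrix (Fin 2) (Fin 2) F).trace)
    (h : A * Y = Y * A) : Y = A ∨ Y = A⁻¹ := by
  obtain ⟨x, z, hY⟩ := exists_coords (SL2Tor.not_isScalar_of_trace A.2 ht) h
  have hdA : A 0 0 * A 1 1 - A 0 1 * A 1 0 = 1 := (det_fin_two _).symm.trans A.2
  have hdY : Y 0 0 * Y 1 1 - Y 0 1 * Y 1 0 = 1 := (det_fin_two _).symm.trans Y.2
  rw [trace_fin_two, trace_fin_two] at htr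
  rw [trace_fin_two] at ht
  have e00 : Y 0 0 = x + z * A 0 0 := by rw [hY]; simp
  have e01 : Y 0 1 = z * A 0 1 := by rw [hY]; simp
  have e10 : Y 1 0 = z * A 1 0 := by rw [hY]; simp
  have e11 : Y 1 1 = x + z * A 1 1 := by rw [hY]; simp
  rw [e00, e01, e10, e11] at hdY
  rw [e00, e11] at htr
  have hq : x ^ 2 + x * z * (A 0 0 + A 1 1) + z ^ 2 = 1 := by linear_combination hdY - z ^ 2 * hdA
  have hmul : (4 - (A 0 0 + A 1 1) ^ 2) * (z ^ 2 - 1) = 0 := by
    linear_combination 4 * hq - (2 * x + z * (A 0 0 + A 1 1) + (A 0 0 + A 1 1)) * htr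
  have hz2 : z ^ 2 = 1 :=
    sub_eq_zero.1 ((mul_eq_zero.1 hmul).resolve_left (sub_ne_zero.2 (Ne.symm ht)))
  have hA1 : x = 0 → z = 1 → Y = A := fun hx hz => Subtype.ext (by rw [hY, hx, hz]; simp)
  have hA2 : x = A 0 0 + A 1 1 → z = -1 → Y = A⁻¹ := fun hx hz => Subtype.ext (by
    rw [hY, hx, hz, Matrix.SpecialLinearGroup.coe_inv, Matrix.adjugate_fin_two]
    ext i j
    fin_cases i <;> fin_cases j <;> simp)
  rcases sq_eq_one_iff.1 hz2 with hz | hz
  · have h2 : 2 * x = 0 := by rw [hz] at htr; linear_combination htr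
    have hx : x * (x + (A 0 0 + A 1 1)) = 0 := by rw [hz] at hq; linear_combination hq
    rcases mul_eq_zero.1 hx with hx | hx
    · exact Or.inl (hA1 hx hz)
    · have hxe : x = -(A 0 0 + A 1 1) := eq_neg_of_add_eq_zero_left hx
      by_cases h20 : (2 : F) = 0
      · refine Or.inr (hA2 ?_ ?_)
        · linear_combination hxe - (A 0 0 + A 1 1) * h20
        · linear_combination hz + h20
      · exact Or.inl (hA1 ((mul_eq_zero.1 h2).resolve_left h20) hz)
  · have h2 : 2 * (x - (A 0 0 + A 1 1)) = 0 := by rw [hz] at htr; linear_combination htr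
    have hx : x * (x - (A 0 0 + A 1 1)) = 0 := by rw [hz] at hq; linear_combination hq
    rcases mul_eq_zero.1 hx with hx | hx
    · by_cases h20 : (2 : F) = 0
      · exact Or.inl (hA1 hx (by linear_combination hz - h20))
      · exact Or.inr (hA2 (sub_eq_zero.1 ((mul_eq_zero.1 h2).resolve_left h20)) hz)
    · exact Or.inr (hA2 (sub_eq_zero.1 hx) hz)

/-- Commuting in `PSL₂` with an element of non-zero trace lifts to commuting in `SL₂`. -/
theorem commute_lift {A Y : SL(2, F)}
    (ht : (A : Matrix (Fin 2) (Fin 2) F).trace ≠ 0) (h : mk A * mk Y = mk Y * mk A) :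
    A * Y = Y * A := by
  rcases Dickson.mk_eq_mk_iff.1 h with e | e
  · exact e
  · have e' : (A : Matrix (Fin 2) (Fin 2) F) = -((Y : Matrix (Fin 2) (Fin 2) F) *
        (A : Matrix (Fin 2) (Fin 2) F) * (Y⁻¹ : SL(2, F))) := by
      have h1 : A = -(Y * A) * Y⁻¹ := by rw [← e, mul_inv_cancel_right]
      conv_lhs => rw [h1]
      simp
    have htr : (A : Matrix (Fin 2) (Fin 2) F).trace = -(A : Matrix (Fin 2) (Fin 2) F).trace := by
      conv_lhs => rw [e', Matrix.trace_neg, Matrix.trace_mul_comm, ← Matrix.mul_assoc,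
        ← Matrix.SpecialLinearGroup.coe_mul, inv_mul_cancel, Matrix.SpecialLinearGroup.coe_one,
        Matrix.one_mul]
    have h2 : (2 : F) = 0 :=
      (mul_eq_zero.1 (show (2 : F) * (A : Matrix (Fin 2) (Fin 2) F).trace = 0 by
        linear_combination htr)).resolve_right ht
    refine e.trans ?_
    refine Subtype.ext ?_
    rw [Matrix.SpecialLinearGroup.coe_neg]
    ext i j
    rw [Matrix.neg_apply]
    linear_combination -(((Y * A : SL(2, F)) : Matrix (Fin 2) (Fin 2) F) i j) * h2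

/-! ### Upper triangular elements -/

theorem up_iff (Y : SL(2, F)) : Up (mk Y) ↔ Y 1 0 = 0 := by
  refine ⟨?_, fun h => ⟨Y, rfl, h⟩⟩
  rintro ⟨Z, hZ, h⟩
  rcases Dickson.mk_eq_mk_iff.1 hZ with e | e <;> rw [e] at h <;> simpa using h

theorem upper_conj (Y : SL(2, F)) (h : Y 1 0 = 0) (r : F) :
    Y * upper r * Y⁻¹ = upper (Y 0 0 ^ 2 * r) := by
  have hd : Y 0 0 * Y 1 1 = 1 := by
    have := (det_fin_two _).symm.trans Y.2
    rw [h] at this; linear_combination this
  rw [mul_inv_eq_iff_eq_mul]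
  ext i j
  fin_cases i <;> fin_cases j <;> simp [Matrix.mul_apply, Fin.sum_univ_two, h]
  linear_combination (-(Y 0 0 * r)) * hd

/-- A subgroup containing all upper unitriangular elements and moving infinity is everything. -/
theorem top_of_upper {S : Subgroup (PSL2 F)} (hU : ∀ r : F, mk (upper r) ∈ S) {y : PSL2 F}
    (hy : y ∈ S) (hup : ¬ Up y) : S = ⊤ := by
  let T : Subgroup SL(2, F) := S.comap (QuotientGroup.mk' _)
  have hUT : ∀ r, upper r ∈ T := hU
  obtain ⟨Y, rfl⟩ := QuotientGroup.mk_surjective y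
  have hY : Y ∈ T := hy
  have hc : Y 1 0 ≠ 0 := fun h => hup ⟨Y, rfl, h⟩
  set W := upper (-(Y 0 0) / Y 1 0) * Y * upper (-(Y 1 1) / Y 1 0) with hW
  have hWT : W ∈ T := mul_mem (mul_mem (hUT _) hY) (hUT _)
  have w00 : W 0 0 = 0 := by
    rw [hW]; simp [Matrix.mul_apply, Matrix.vecMul, dotProduct, Fin.sum_univ_two]; field_simp; ring
  have w10 : W 1 0 = Y 1 0 := by rw [hW]; simp [Matrix.mul_apply, Matrix.vecMul, dotProduct, Fin.sum_univ_two]
  have w11 : W 1 1 = 0 := by
    rw [hW]; simp [Matrix.mul_apply, Matrix.vecMul, dotProduct, Fin.sum_univ_two]; field_simp; ring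
  have w01 : W 0 1 * Y 1 0 = -1 := by
    have := (det_fin_two _).symm.trans W.2
    rw [w00, w10, w11] at this; linear_combination -this
  have hL : ∀ c, lower c ∈ T := by
    intro c
    have h1 : W * upper (-c / Y 1 0 ^ 2) * W⁻¹ = lower c := by
      rw [mul_inv_eq_iff_eq_mul]
      ext i j
      fin_cases i <;> fin_cases j <;>
        simp [Matrix.mul_apply, Fin.sum_univ_two, w00, w10, w11]
      field_simp
      linear_combination -c * w01
    exact h1 ▸ mul_mem (mul_mem hWT (hUT _)) (inv_mem hWT)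
  have hgen : ∀ Z : SL(2, F), Z 1 0 ≠ 0 → Z ∈ T := by
    intro Z hZ
    have hd := (det_fin_two _).symm.trans Z.2
    have : Z = upper ((Z 0 0 - 1) / Z 1 0) * lower (Z 1 0) * upper ((Z 1 1 - 1) / Z 1 0) := by
      ext i j
      fin_cases i <;> fin_cases j <;> simp [Matrix.mul_apply, Fin.sum_univ_two] <;> field_simp
      · ring
      · linear_combination -hd
      · ring
    rw [this]
    exact mul_mem (mul_mem (hUT _) (hL _)) (hUT _)
  refine eq_top_iff.2 fun z _ => ?_
  obtain ⟨Z, rfl⟩ := QuotientGroup.mk_surjective z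
  show Z ∈ T
  by_cases hZ : Z 1 0 = 0
  · have h00 : Z 0 0 ≠ 0 := fun h => by
      have := (det_fin_two _).symm.trans Z.2
      rw [hZ, h] at this; simp at this
    have h1 : (lower 1 * Z) ∈ T := hgen _ (by simp [Matrix.mul_apply, Fin.sum_univ_two, hZ, h00])
    exact (Subgroup.mul_mem_cancel_left T (hL 1)).1 h1
  · exact hgen Z hZ

/-- A conjugation from the trace. -/
theorem exists_conj [Finite F] {A B : SL(2, F)}
    (h : (A : Matrix (Fin 2) (Fin 2) F).trace = (B : Matrix (Fin 2) (Fin 2) F).trace)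
    (h4 : (A : Matrix (Fin 2) (Fin 2) F).trace ^ 2 ≠ 4) : ∃ x, x * A * x⁻¹ = B :=
  (SL2Tor.isConj_of_trace A B h h4).imp fun _ hx => hx.symm

end Cfsg.Agent.MaxSub.BinaryPSL
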