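import Mathlib

/-!
Binary actions on coset spaces: a criterion for failure through fixed point sets, and a
criterion for success for trivial-intersection stabilisers.
-/

set_option autoImplicit false

namespace Cfsg.Agent.MaxSub.BinaryPSL

variable {G : Type*} [Group G]

/-- Tuples of cosets which are pairwise equivalent are equivalent. -/
def Binary (H : Subgroup G) : Prop :=
  ∀ (n : ℕ) (I J : Fin n → G ⧸ H), 2 ≤ n →
    (∀ i j : Fin n, i ≠ j → ∃ g : G, g • I i = J i ∧ g • I j = J j) → ∃ g : G, ∀ i, g • I i = J i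

/-- `g` fixes a coset. -/
def Meets (H : Subgroup G) (g : G) : Prop := ∃ x : G, x⁻¹ * g * x ∈ H

/-- The elements fixing every coset fixed by `g`. -/
def clo (H : Subgroup G) (g : G) : Subgroup G where
  carrier := {y | ∀ x : G, x⁻¹ * g * x ∈ H → x⁻¹ * y * x ∈ H}
  one_mem' := fun x _ => by simp
  mul_mem' := fun {a b} ha hb x hx => by
    have := H.mul_mem (ha x hx) (hb x hx)
    simpa [mul_assoc] using this
  inv_mem' := fun {a} ha x hx => by
    have := H.inv_mem (ha x hx)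
    simpa [mul_assoc] using this

theorem mem_clo {H : Subgroup G} {g y : G} :
    y ∈ clo H g ↔ ∀ x : G, x⁻¹ * g * x ∈ H → x⁻¹ * y * x ∈ H := Iff.rfl

theorem self_mem_clo (H : Subgroup G) (g : G) : g ∈ clo H g := fun _ h => h

theorem clo_le {H : Subgroup G} {g : G} (hg : g ∈ H) : clo H g ≤ H := fun y hy => by
  simpa using hy 1 (by simpa using hg)

theorem clo_le_of_mem {H : Subgroup G} {g r : G} (hr : r ∈ clo H g) : clo H r ≤ clo H g :=
  fun _ hy x hx => hy x (hr x hx)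

theorem clo_inv (H : Subgroup G) (g : G) : clo H g⁻¹ = clo H g :=
  le_antisymm (clo_le_of_mem (inv_mem (self_mem_clo H g)))
    (clo_le_of_mem (by simpa using inv_mem (self_mem_clo H g⁻¹)))

theorem conj_mem_clo {H : Subgroup G} {g y : G} (c : G) (hy : y ∈ clo H g) :
    c * y * c⁻¹ ∈ clo H (c * g * c⁻¹) := fun x hx => by
  have := hy (c⁻¹ * x) (by simpa [mul_assoc] using hx)
  simpa [mul_assoc] using this

theorem mem_clo_conj_iff {H : Subgroup G} {g y : G} (c : G) :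
    y ∈ clo H (c * g * c⁻¹) ↔ c⁻¹ * y * c ∈ clo H g := by
  constructor
  · intro hy
    have := conj_mem_clo c⁻¹ hy
    simpa [mul_assoc] using this
  · intro hy
    have := conj_mem_clo c hy
    simpa [mul_assoc] using this

theorem normalises_clo {H : Subgroup G} {g c : G} (hc : c * g = g * c) {y : G}
    (hy : y ∈ clo H g) : c * y * c⁻¹ ∈ clo H g := by
  have := conj_mem_clo c hy
  rwa [hc, mul_inv_cancel_right] at this

theorem meets_conj {H : Subgroup G} {g : G} (c : G) (hg : Meets H g) :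
    Meets H (c * g * c⁻¹) := by
  obtain ⟨x, hx⟩ := hg
  exact ⟨c * x, by simpa [mul_assoc] using hx⟩

theorem meets_of_mem {H : Subgroup G} {g : G} (hg : g ∈ H) : Meets H g := ⟨1, by simpa using hg⟩

theorem smul_mk_eq_iff {H : Subgroup G} (g x : G) :
    g • (QuotientGroup.mk x : G ⧸ H) = QuotientGroup.mk x ↔ x⁻¹ * g * x ∈ H := by
  rw [eq_comm, show g • (QuotientGroup.mk x : G ⧸ H) = QuotientGroup.mk (g * x) from rfl,
    QuotientGroup.eq, mul_assoc]

theorem not_binary [Finite G] {H : Subgroup G} {g h k : G} (hk : g = h * k)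
    (mg : Meets H g) (mh : Meets H h) (mk' : Meets H k)
    (no : ∀ x ∈ clo H g, x ∈ clo H h → x⁻¹ * g ∉ clo H k) : ¬ Binary H := by
  intro hbin
  let fxd : Fin 3 → G := ![g, h, k]
  let S := {p : Fin 3 × (G ⧸ H) // fxd p.1 • p.2 = p.2}
  let n := Nat.card S
  let e : S ≃ Fin n := Finite.equivFin S
  have hfix : ∀ i, ∃ P : G ⧸ H, fxd i • P = P := by
    intro i
    fin_cases i
    · obtain ⟨x, hx⟩ := mg; exact ⟨_, (smul_mk_eq_iff _ x).2 hx⟩
    · obtain ⟨x, hx⟩ := mh; exact ⟨_, (smul_mk_eq_iff _ x).2 hx⟩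
    · obtain ⟨x, hx⟩ := mk'; exact ⟨_, (smul_mk_eq_iff _ x).2 hx⟩
  choose P hP using hfix
  let ι : Fin 3 → S := fun i => ⟨(i, P i), hP i⟩
  have hn : 2 ≤ n := by
    have h3 : Nat.card (Fin 3) ≤ n := Nat.card_le_card_of_injective ι fun a b hab => by
      simpa [ι] using congrArg (fun s : S => s.1.1) hab
    rw [Nat.card_fin] at h3; omega
  let τ : Fin 3 → G := ![1, 1, g]
  obtain ⟨x, hx⟩ := hbin n (fun i => (e.symm i).1.2) (fun i => τ (e.symm i).1.1 • (e.symm i).1.2) hn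
    (fun i j _ => by
      obtain ⟨⟨a, A⟩, hA⟩ := e.symm i
      obtain ⟨⟨b, B⟩, hB⟩ := e.symm j
      have hkey : ∀ {Q : G ⧸ H}, k • Q = Q → h • Q = g • Q := fun {Q} hQ => by
        rw [hk, mul_smul, hQ]
      fin_cases a <;> fin_cases b <;> simp [fxd, τ] at hA hB ⊢
      · exact ⟨1, one_smul G A, one_smul G B⟩
      · exact ⟨1, one_smul G A, one_smul G B⟩
      · exact ⟨g, hA, rfl⟩
      · exact ⟨1, one_smul G A, one_smul G B⟩
      · exact ⟨1, one_smul G A, one_smul G B⟩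
      · exact ⟨h, hA, hkey hB⟩
      · exact ⟨g, rfl, hB⟩
      · exact ⟨h, hkey hA, hB⟩
      · exact ⟨g, rfl, rfl⟩)
  have key : ∀ (a : Fin 3) (Q : G ⧸ H), fxd a • Q = Q → x • Q = τ a • Q := fun a Q hQ => by
    have := hx (e ⟨(a, Q), hQ⟩)
    simpa using this
  refine no x (fun y hy => ?_) (fun y hy => ?_) fun y hy => ?_
  · have := key 0 _ ((smul_mk_eq_iff g y).2 hy)
    simp [τ] at this
    exact (smul_mk_eq_iff x y).1 this
  · have := key 1 _ ((smul_mk_eq_iff h y).2 hy)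
    simp [τ] at this
    exact (smul_mk_eq_iff x y).1 this
  · have := key 2 _ ((smul_mk_eq_iff k y).2 hy)
    simp [τ] at this
    refine (smul_mk_eq_iff (x⁻¹ * g) y).1 ?_
    rw [mul_smul, inv_smul_eq_iff]
    exact this.symm

/-- The usual way to apply the criterion. -/
theorem not_binary' [Finite G] {H : Subgroup G} {g h k : G} (hk : g = h * k)
    (mg : Meets H g) (mh : Meets H h) (mk' : Meets H k)
    (hgh : ∀ x ∈ clo H g, x ∈ clo H h → x = 1) (hgk : g ∉ clo H k) : ¬ Binary H :=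
  not_binary hk mg mh mk' fun x hx hx' => by
    rw [hgh x hx hx', inv_one, one_mul]; exact hgk

/-- A trivial-intersection stabiliser without non-trivial triangles gives a binary action. -/
theorem binary_of_ti {H : Subgroup G}
    (hti : ∀ x c : G, c ∈ H → c ≠ 1 → x⁻¹ * c * x ∈ H → ∀ y, y ∈ H ↔ x⁻¹ * y * x ∈ H)
    (htri : ∀ x y c a b : G, c ∈ H → x⁻¹ * a * x ∈ H → y⁻¹ * b * y ∈ H → c = a * b → c ≠ 1 → a ≠ 1 →
      b ≠ 1 → x⁻¹ * c * x ∈ H) : Binary H := by
  intro n I J hn hpair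
  let o : Fin n := ⟨0, by omega⟩
  obtain ⟨g₁, hg₁⟩ : ∃ g₁ : G, g₁ • I o = J o := by
    obtain ⟨g, hg, -⟩ := hpair o ⟨1, by omega⟩ (by simp [o])
    exact ⟨g, hg⟩
  obtain ⟨x₀, hx₀⟩ := QuotientGroup.mk_surjective (I o)
  -- the stabiliser of a coset is a conjugate of `H`
  have st : ∀ (g : G) (i : Fin n) (x : G), QuotientGroup.mk x = I i →
      (g • I i = I i ↔ x⁻¹ * g * x ∈ H) := fun g i x hx => by rw [← hx]; exact smul_mk_eq_iff g x
  let Fix : Fin n → Subgroup G := fun i => MulAction.stabilizer G (I i)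
  -- a common stabilised element forces equal stabilisers
  have ti : ∀ i j, ∀ c : G, c ≠ 1 → c ∈ Fix i → c ∈ Fix j → Fix i = Fix j := by
    intro i j c hc hi hj
    obtain ⟨u, hu⟩ := QuotientGroup.mk_surjective (I i)
    obtain ⟨v, hv⟩ := QuotientGroup.mk_surjective (I j)
    rw [MulAction.mem_stabilizer_iff, st c i u hu] at hi
    rw [MulAction.mem_stabilizer_iff, st c j v hv] at hj
    ext y
    rw [MulAction.mem_stabilizer_iff, st y i u hu, MulAction.mem_stabilizer_iff, st y j v hv,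
      hti (u⁻¹ * v) (u⁻¹ * c * u) hi
        (fun e => hc (by simpa [mul_assoc] using congrArg (fun z => u * z * u⁻¹) e))
        (by simpa [mul_assoc] using hj) (u⁻¹ * y * u)]
    simp [mul_assoc]
  have tri : ∀ i j, ∀ c a b : G, c ∈ Fix o → a ∈ Fix i → b ∈ Fix j → c = a * b → c ≠ 1 → a ≠ 1 →
      b ≠ 1 → Fix i = Fix o := by
    intro i j c a b hc ha hb e hc1 ha1 hb1
    obtain ⟨u, hu⟩ := QuotientGroup.mk_surjective (I i)
    obtain ⟨v, hv⟩ := QuotientGroup.mk_surjective (I j)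
    refine ti i o c hc1 ?_ hc
    rw [MulAction.mem_stabilizer_iff, st c o x₀ hx₀] at hc
    rw [MulAction.mem_stabilizer_iff, st a i u hu] at ha
    rw [MulAction.mem_stabilizer_iff, st b j v hv] at hb
    rw [MulAction.mem_stabilizer_iff, st c i u hu]
    have hne : ∀ {z : G}, z ≠ 1 → x₀⁻¹ * z * x₀ ≠ 1 := fun hz h0 =>
      hz (by simpa [mul_assoc] using congrArg (fun w => x₀ * w * x₀⁻¹) h0)
    have := htri (x₀⁻¹ * u) (x₀⁻¹ * v) (x₀⁻¹ * c * x₀) (x₀⁻¹ * a * x₀) (x₀⁻¹ * b * x₀) hc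
      (by simpa [mul_assoc] using ha) (by simpa [mul_assoc] using hb) (by rw [e]; group)
      (hne hc1) (hne ha1) (hne hb1)
    simpa [mul_assoc] using this
  have hh : ∀ i, ∃ h ∈ Fix o, g₁ • h • I i = J i := by
    intro i
    by_cases hi : i = o
    · subst hi; exact ⟨1, one_mem _, by rw [one_smul]; exact hg₁⟩
    obtain ⟨g, hg, hgi⟩ := hpair o i (Ne.symm hi)
    refine ⟨g₁⁻¹ * g, ?_, by rw [← mul_smul, mul_inv_cancel_left]; exact hgi⟩
    rw [MulAction.mem_stabilizer_iff, mul_smul, inv_smul_eq_iff, hg, hg₁]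
  choose h hho hhJ using hh
  by_cases hall : ∀ i, Fix i = Fix o
  · refine ⟨g₁, fun i => ?_⟩
    rw [← hhJ i, show h i • I i = I i from MulAction.mem_stabilizer_iff.1 (show h i ∈ Fix i by rw [hall i]; exact hho i)]
  push Not at hall
  obtain ⟨i, hi⟩ := hall
  refine ⟨g₁ * h i, fun j => ?_⟩
  rw [mul_smul, ← hhJ j]
  congr 1
  by_cases hj : Fix j = Fix o
  · rw [show h i • I j = I j from MulAction.mem_stabilizer_iff.1 (show h i ∈ Fix j by rw [hj]; exact hho i),
      show h j • I j = I j from MulAction.mem_stabilizer_iff.1 (show h j ∈ Fix j by rw [hj]; exact hho j)]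
  by_cases hij : i = j
  · rw [hij]
  obtain ⟨g, hgi, hgj⟩ := hpair i j hij
  set a := (h i)⁻¹ * (g₁⁻¹ * g)
  set b := (h j)⁻¹ * (g₁⁻¹ * g)
  have ha : a ∈ Fix i := by
    rw [MulAction.mem_stabilizer_iff, mul_smul, mul_smul, hgi, ← hhJ i, inv_smul_smul, inv_smul_smul]
  have hb : b ∈ Fix j := by
    rw [MulAction.mem_stabilizer_iff, mul_smul, mul_smul, hgj, ← hhJ j, inv_smul_smul, inv_smul_smul]
  have hc : (h j)⁻¹ * h i ∈ Fix o := mul_mem (inv_mem (hho j)) (hho i)
  have e : (h j)⁻¹ * h i = b * a⁻¹ := by simp [a, b, mul_assoc]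
  by_cases hc1 : (h j)⁻¹ * h i = 1
  · rw [inv_mul_eq_one.1 hc1]
  by_cases hb1 : b = 1
  · rw [hb1, one_mul] at e
    exact absurd (ti i o _ hc1 (e ▸ inv_mem ha) hc) hi
  by_cases ha1 : a = 1
  · rw [ha1, inv_one, mul_one] at e
    exact absurd (ti j o _ hc1 (e ▸ hb) hc) hj
  exact absurd (tri j i _ b a⁻¹ hc hb (inv_mem ha) e hc1 hb1 (inv_ne_one.2 ha1)) hj

end Cfsg.Agent.MaxSub.BinaryPSL
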