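import Cfsg.Agent.MaxSub.BinaryPSL.Over

/-!
Stabilisers with involutions, odd characteristic: commuting triangles.
-/

set_option autoImplicit false

namespace Cfsg.Agent.MaxSub.BinaryPSL

open Matrix
open scoped MatrixGroups
open Cfsg.Agent.Dickson (PSL2)

variable {F : Type*} [Field F] [Fintype F]

theorem mul_self_of_order_two {G : Type*} [Group G] {u : G} (h : orderOf u = 2) : u * u = 1 := by
  have := pow_orderOf_eq_one u
  rwa [h, sq] at this

theorem orderOf_two_of_mul_self {G : Type*} [Group G] {u : G} (h : u * u = 1) (h1 : u ≠ 1) :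
    orderOf u = 2 := orderOf_eq_prime (by rw [sq, h]) h1

/-- A cyclic permutation of the involutions of a Klein four group. -/
theorem exists_cycle (h2 : (2 : F) ≠ 0) {g j : PSL2 F} (hg : orderOf g = 2) (hj : orderOf j = 2)
    (hne : g ≠ j) (hgj : g * j = j * g) :
    ∃ c : PSL2 F, c * g * c⁻¹ = j ∧ c * j * c⁻¹ = g * j ∧ c * (g * j) * c⁻¹ = g := by
  obtain ⟨A, rfl, hA⟩ := Dickson.lift_two hg
  obtain ⟨B, rfl, hB⟩ := Dickson.lift_two hj
  have hAB : A * B = -(B * A) := by
    have h' : A * B = B * A ∨ A * B = -(B * A) := Dickson.mk_eq_mk_iff.1 hgj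
    refine h'.resolve_left fun h => hne ?_
    have h4 : (A : Matrix (Fin 2) (Fin 2) F).trace ^ 2 ≠ 4 := by
      rw [show (A : Matrix (Fin 2) (Fin 2) F).trace = 0 from hA]
      intro e
      exact mul_ne_zero h2 h2 (by linear_combination -e)
    rcases eq_or_inv_of_commute h4 ((show _ = (0 : F) from hB).trans (show (0 : F) = _ from hA.symm)) h
      with e | e
    · rw [e]
    · rw [e, QuotientGroup.mk_inv]
      exact (inv_eq_of_mul_eq_one_right (mul_self_of_order_two hg)).symm
  set a := (A : Matrix (Fin 2) (Fin 2) F) with ha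
  set b := (B : Matrix (Fin 2) (Fin 2) F) with hb
  have ta : a 1 1 = -a 0 0 := by
    have h : a.trace = 0 := hA
    rw [trace_fin_two] at h; linear_combination h
  have tb : b 1 1 = -b 0 0 := by
    have h : b.trace = 0 := hB
    rw [trace_fin_two] at h; linear_combination h
  have da : a 0 0 * a 1 1 - a 0 1 * a 1 0 = 1 := (det_fin_two _).symm.trans A.2
  have db : b 0 0 * b 1 1 - b 0 1 * b 1 0 = 1 := (det_fin_two _).symm.trans B.2
  have hab : a * b = -(b * a) := by
    simpa using congrArg (fun M : SL(2, F) => (M : Matrix (Fin 2) (Fin 2) F)) hAB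
  have hs : 2 * a 0 0 * b 0 0 + a 0 1 * b 1 0 + a 1 0 * b 0 1 = 0 := by
    have := congrFun (congrFun hab 0) 0
    simp [Matrix.mul_apply, Fin.sum_univ_two] at this
    linear_combination this
  have sa : a * a = -1 := by
    ext i j
    fin_cases i <;> fin_cases j <;> simp [Matrix.mul_apply, Fin.sum_univ_two, ta] <;>
      rw [ta] at da <;> first | linear_combination -da | ring
  have sb : b * b = -1 := by
    ext i j
    fin_cases i <;> fin_cases j <;> simp [Matrix.mul_apply, Fin.sum_univ_two, tb] <;>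
      rw [tb] at db <;> first | linear_combination -db | ring
  set N := 1 + a + b + a * b with hN
  have hdet : ((2 : F)⁻¹ • N).det = 1 := by
    rw [Matrix.det_smul, Fintype.card_fin, det_fin_two, hN]
    simp [Matrix.mul_apply, Fin.sum_univ_two, ta, tb]
    rw [ta] at da
    rw [tb] at db
    field_simp
    linear_combination (1 + (-b 0 0 ^ 2 - b 0 1 * b 1 0)) * da + 2 * db
  obtain ⟨C, hC⟩ : ∃ C : SL(2, F), (C : Matrix (Fin 2) (Fin 2) F) = (2 : F)⁻¹ • N :=
    ⟨⟨_, hdet⟩, rfl⟩
  have hba : b * a = -(a * b) := by rw [hab, neg_neg]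
  have r1 : ∀ X, a * (a * X) = -X := fun X => by rw [← mul_assoc, sa, neg_one_mul]
  have r2 : ∀ X, b * (b * X) = -X := fun X => by rw [← mul_assoc, sb, neg_one_mul]
  have r3 : ∀ X, b * (a * X) = -(a * (b * X)) := fun X => by
    rw [← mul_assoc, hba, neg_mul, mul_assoc]
  have e1 : N * a = b * N := by
    simp only [hN, add_mul, mul_add, mul_assoc, one_mul, mul_one, sa, sb, hba, r1, r2, r3, mul_neg,
      neg_neg]
    abel
  have e2 : N * b = a * b * N := by
    simp only [hN, add_mul, mul_add, mul_assoc, one_mul, mul_one, sa, sb, hba, r1, r2, r3, mul_neg,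
      neg_neg]
    abel
  have conj : ∀ X Y : SL(2, F), N * (X : Matrix (Fin 2) (Fin 2) F) = (Y : Matrix (Fin 2) (Fin 2) F) * N →
      mk C * mk X * (mk C)⁻¹ = mk Y := by
    intro X Y h
    rw [← mk_conj]
    congr 1
    rw [mul_inv_eq_iff_eq_mul]
    exact Subtype.ext (by
      rw [Matrix.SpecialLinearGroup.coe_mul, Matrix.SpecialLinearGroup.coe_mul, hC, Matrix.smul_mul,
        Matrix.mul_smul, h])
  have c1 := conj A B e1
  have c2 : mk C * mk B * (mk C)⁻¹ = mk A * mk B := conj B (A * B) (by rw [e2, Matrix.SpecialLinearGroup.coe_mul])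
  refine ⟨mk C, c1, c2, ?_⟩
  rw [show mk C * (mk A * mk B) * (mk C)⁻¹ =
    (mk C * mk A * (mk C)⁻¹) * (mk C * mk B * (mk C)⁻¹) by group, c1, c2, ← mul_assoc, ← hgj,
    mul_assoc, mul_self_of_order_two hj, mul_one]

theorem clo_ne {H : Subgroup (PSL2 F)} (hH : H ≠ ⊤) {g : PSL2 F} (hm : Meets H g) (hg : g ≠ 1) :
    clo H g ≠ ⊥ ∧ clo H g ≠ ⊤ := by
  refine ⟨fun e => hg (by simpa [e] using self_mem_clo H g), fun e => hH ?_⟩
  obtain ⟨x, hx⟩ := hm
  refine eq_top_iff.2 fun y _ => ?_
  have := (show x * y * x⁻¹ ∈ clo H g by rw [e]; exact Subgroup.mem_top _) x hx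
  simpa [mul_assoc] using this

theorem normalizer_ne_top (hq : 4 ≤ Fintype.card F) {K : Subgroup (PSL2 F)}
    (h : K ≠ ⊥ ∧ K ≠ ⊤) : Subgroup.normalizer (K : Set (PSL2 F)) ≠ ⊤ := by
  intro e
  haveI : K.Normal := Subgroup.normalizer_eq_top_iff.1 e
  haveI : IsSimpleGroup (PSL2 F) :=
    Matrix.ProjectiveSpecialLinearGroup.rank_two_simple (by rwa [Nat.card_eq_fintype_card])
  rcases IsSimpleGroup.eq_bot_or_eq_top_of_normal K inferInstance with e | e
  · exact h.1 e
  · exact h.2 e

omit [Fintype F] in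
theorem cent_le_normalizer_clo (H : Subgroup (PSL2 F)) (g : PSL2 F) :
    Cent g ≤ Subgroup.normalizer (clo H g : Set (PSL2 F)) := by
  intro x hx
  rw [Subgroup.mem_normalizer_iff]
  refine fun z => ⟨normalises_clo (mem_cent.1 hx), fun hz => ?_⟩
  have := normalises_clo (c := x⁻¹) (mem_cent.1 ((Cent g).inv_mem hx)) hz
  simpa [mul_assoc] using this

/-- If the closure of `g` is not central for `g`, its normaliser has order 24 and contains the
squares of that normaliser. -/
theorem clo_big (h2 : (2 : F) ≠ 0) (hq : 7 ≤ Fintype.card F) {H : Subgroup (PSL2 F)} (hH : H ≠ ⊤)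
    {g : PSL2 F} (hg : orderOf g = 2) (hm : Meets H g) (hK : ¬ clo H g ≤ Cent g) :
    Nat.card (Subgroup.normalizer (clo H g : Set (PSL2 F))) = 24 ∧
      (∀ z : PSL2 F, orderOf z = 2 → ∃ r, InvData z r 4) ∧
      ∀ y ∈ Subgroup.normalizer (clo H g : Set (PSL2 F)), y * y ∈ clo H g := by
  set K := clo H g with hKdef
  set M := Subgroup.normalizer (K : Set (PSL2 F)) with hMdef
  obtain ⟨r, n, hd⟩ := exists_invData h2 hq hg
  have hg1 : g ≠ 1 := fun e => by rw [e, orderOf_one] at hg; omega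
  have hM : M ≠ ⊤ := normalizer_ne_top (by omega) (clo_ne hH hm hg1)
  have hCM : Cent g ≤ M := cent_le_normalizer_clo H g
  have hKM : K ≤ M := Subgroup.le_normalizer
  obtain ⟨hcard, rfl⟩ := (over_cent hd hM hCM).resolve_left fun h => hK (hKM.trans h)
  have hall : ∀ z : PSL2 F, orderOf z = 2 → ∃ r, InvData z r 4 := by
    intro z hz
    obtain ⟨c, rfl⟩ := Dickson.isConj_involutions h2 hg hz
    exact ⟨_, hd.conj c⟩
  refine ⟨hcard, hall, ?_⟩
  have hC8 : Nat.card (Cent g) = 8 := hd.card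
  have h3 : 3 ∣ Nat.card K := by
    by_contra h3
    apply hK
    have hK8 : Nat.card K ∣ 8 := by
      have h24 : Nat.card K ∣ 8 * 3 := by
        have := Subgroup.card_dvd_of_le hKM
        rwa [hcard] at this
      exact (Nat.Coprime.symm ((Nat.Prime.coprime_iff_not_dvd Nat.prime_three).2 h3)).dvd_of_dvd_mul_right h24
    have hpK : IsPGroup 2 K := by
      obtain ⟨i, -, hi⟩ := (Nat.dvd_prime_pow Nat.prime_two).1 (show Nat.card K ∣ 2 ^ 3 by norm_num; exact hK8)
      exact IsPGroup.of_card hi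
    have hpC : IsPGroup 2 (Cent g) := IsPGroup.of_card (show Nat.card (Cent g) = 2 ^ 3 by rw [hC8]; norm_num)
    have hsup := IsPGroup.to_sup_of_normal_right' hpC hpK (fun x hx => hCM hx)
    obtain ⟨i, hi⟩ := hsup.exists_card_eq
    have hle : Cent g ⊔ K ≤ M := sup_le hCM hKM
    have hdvd := Subgroup.card_dvd_of_le hle
    have h8 := Subgroup.card_dvd_of_le (le_sup_left : Cent g ≤ Cent g ⊔ K)
    rw [hi, hcard] at hdvd
    rw [hi, hC8] at h8
    have hi3 : i = 3 := by
      have := Nat.le_of_dvd (by norm_num) hdvd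
      have h5 : i < 5 := by
        by_contra h5
        have : 2 ^ 5 ≤ 2 ^ i := Nat.pow_le_pow_right (by norm_num) (by omega)
        omega
      interval_cases i <;> omega
    have : Cent g = Cent g ⊔ K := Subgroup.eq_of_le_of_card_ge le_sup_left (by rw [hi, hi3, hC8]; norm_num)
    exact le_sup_right.trans this.ge
  have h2K : 2 ∣ Nat.card K := by
    have := orderOf_dvd_natCard (⟨g, self_mem_clo H g⟩ : K)
    rwa [Subgroup.orderOf_mk, hg] at this
  have h6 : Nat.card K ≠ 6 := by
    intro h6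
    obtain ⟨d, hd3⟩ := exists_prime_orderOf_dvd_card' (G := K) 3 h3
    have hdo : orderOf (d : PSL2 F) = 3 := by rw [Subgroup.orderOf_coe, hd3]
    let P := Subgroup.zpowers d
    have hP : P.index = 2 := by
      have h := P.card_mul_index
      rw [Nat.card_zpowers, hd3, h6] at h
      omega
    have hpow : ∀ y : K, orderOf y = 3 → y = d ∨ y = d⁻¹ := by
      intro y hy
      have hy3 : y ^ 3 = 1 := hy ▸ pow_orderOf_eq_one y
      have hmem : y ∈ P := by
        have h := mul_mem (Subgroup.mul_self_mem_of_index_two hP y) (Subgroup.mul_self_mem_of_index_two hP y)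
        rwa [show y * y * (y * y) = y ^ 3 * y by simp [pow_succ, mul_assoc], hy3, one_mul] at h
      obtain ⟨i, rfl⟩ := hmem
      have hi : d ^ i = d ^ (i % (3 : ℤ)) := by
        have := (zpow_mod_orderOf d i).symm
        rw [hd3] at this
        exact this
      simp only at hy ⊢
      rw [hi] at hy ⊢
      have := Int.emod_nonneg i (show (3 : ℤ) ≠ 0 by norm_num)
      have := Int.emod_lt_of_pos i (show (0 : ℤ) < 3 by norm_num)
      obtain h | h | h : i % 3 = 0 ∨ i % 3 = 1 ∨ i % 3 = 2 := by omega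
      · rw [h, zpow_zero, orderOf_one] at hy; omega
      · left; rw [h, zpow_one]
      · right
        rw [h]
        refine eq_inv_of_mul_eq_one_left ?_
        have := pow_orderOf_eq_one d
        rw [hd3] at this
        rw [show (2 : ℤ) = ((2 : ℕ) : ℤ) from rfl, zpow_natCast, ← pow_succ]
        exact this
    have hno : ∀ x ∈ Cent g, orderOf x = 2 → x * d.1 * x⁻¹ = (d.1)⁻¹ := by
      intro x hx hx2
      have hmem : x * d.1 * x⁻¹ ∈ K := normalises_clo (mem_cent.1 hx) d.2
      have ho : orderOf (⟨_, hmem⟩ : K) = 3 := by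
        rw [Subgroup.orderOf_mk]
        exact (orderOf_injective (MulAut.conj x).toMonoidHom (MulAut.conj x).injective d.1).trans hdo
      rcases hpow _ ho with h | h
      · exfalso
        have h' : x * d.1 * x⁻¹ = d.1 := congrArg Subtype.val h
        obtain ⟨r', hd'⟩ := hall x hx2
        have hdC : d.1 ∈ Cent x := mem_cent.2 (mul_inv_eq_iff_eq_mul.1 h').symm
        have := Subgroup.orderOf_mk (d.1) hdC ▸ orderOf_dvd_natCard (⟨_, hdC⟩ : Cent x)
        rw [hdo, hd'.card] at this
        norm_num at this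
      · exact congrArg Subtype.val h
    obtain ⟨j, hj, hj1, hjr⟩ := hd.refl
    have hjne : j ≠ 1 := fun e => hjr (by rw [e, one_mul, mul_one])
    have hjg : j ≠ g := fun e => hjr (by rw [e]; exact (mem_cent.1 hd.mem).symm)
    have hcomm := mem_cent.1 hj
    have hgj1 : g * j ≠ 1 := fun e => hjg (mul_left_cancel (e.trans (mul_self_of_order_two hg).symm))
    have hgjsq : g * j * (g * j) = 1 := by
      rw [mul_assoc, ← mul_assoc j g j, hcomm, mul_assoc g j j, hj1, mul_one, mul_self_of_order_two hg]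
    have e1 := hno g (mem_cent.2 rfl) hg
    have e2 := hno j hj (orderOf_two_of_mul_self hj1 hjne)
    have e3 := hno (g * j) (mul_mem (mem_cent.2 rfl) hj) (orderOf_two_of_mul_self hgjsq hgj1)
    rw [show g * j * d.1 * (g * j)⁻¹ = g * (j * d.1 * j⁻¹) * g⁻¹ by group, e2] at e3
    rw [show g * (d.1)⁻¹ * g⁻¹ = (g * d.1 * g⁻¹)⁻¹ by group, e1, inv_inv] at e3
    have hd' : d.1 * d.1 = 1 := by nth_rewrite 1 [e3]; exact inv_mul_cancel _
    have := orderOf_dvd_of_pow_eq_one (show d.1 ^ 2 = 1 by rw [sq, hd'])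
    rw [hdo] at this
    norm_num at this
  intro y hy
  have hidx := (K.subgroupOf M).card_mul_index
  rw [Nat.card_congr (Subgroup.subgroupOfEquivOfLe hKM).toEquiv, hcard] at hidx
  have h12 : 6 ∣ Nat.card K := Nat.Coprime.mul_dvd_of_dvd_of_dvd (by norm_num) h2K h3
  have hle : Nat.card K ≤ 24 := Nat.le_of_dvd (by norm_num) ⟨_, hidx.symm⟩
  have hi : (K.subgroupOf M).index ≤ 2 := by
    obtain ⟨c, hc⟩ := h12
    rw [hc] at hidx hle h6
    rcases (show c = 1 ∨ 2 ≤ c ∨ c = 0 by omega) with rfl | hc2 | rfl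
    · omega
    · by_contra hlt
      have : 12 * 3 ≤ 6 * c * (K.subgroupOf M).index := Nat.mul_le_mul (by omega) (by omega)
      omega
    · simp at hidx
  rcases Nat.lt_or_ge (K.subgroupOf M).index 2 with h | h
  · have h1 : (K.subgroupOf M).index = 1 := by
      have := Subgroup.index_ne_zero_of_finite (H := K.subgroupOf M)
      omega
    rw [Subgroup.index_eq_one] at h1
    have hy' : (⟨y, hy⟩ : M) * ⟨y, hy⟩ ∈ K.subgroupOf M := by rw [h1]; exact Subgroup.mem_top _
    exact hy'
  · exact Subgroup.mul_self_mem_of_index_two (show (K.subgroupOf M).index = 2 by omega) (⟨y, hy⟩ : M)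

/-- Common elements of the closures of two commuting involutions centralise the first. -/
theorem inter_le (h2 : (2 : F) ≠ 0) (hq : 7 ≤ Fintype.card F) {H : Subgroup (PSL2 F)} (hH : H ≠ ⊤)
    {g h : PSL2 F} (hg : orderOf g = 2) (hh : orderOf h = 2) (hne : g ≠ h) (hgh : g * h = h * g)
    (hm : Meets H g) (hnot : h ∉ clo H g) {x : PSL2 F} (hx : x ∈ clo H g) (hx' : x ∈ clo H h) :
    x ∈ Cent g := by
  by_cases hK : clo H g ≤ Cent g
  · exact hK hx
  obtain ⟨c, hc⟩ := Dickson.isConj_involutions h2 hg hh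
  have hm' : Meets H h := hc ▸ meets_conj c hm
  have hK' : ¬ clo H h ≤ Cent h := by
    intro h'
    refine hK fun y hy => ?_
    have h1 := conj_mem_clo c hy
    rw [hc] at h1
    have h3 := mem_cent.1 (h' h1)
    rw [← hc] at h3
    rw [mem_cent]
    simpa [mul_assoc] using congrArg (fun z => c⁻¹ * z * c) h3
  obtain ⟨hM24, hall, hsq⟩ := clo_big h2 hq hH hg hm hK
  obtain ⟨hM24', -, -⟩ := clo_big h2 hq hH hh hm' hK'
  set M := Subgroup.normalizer (clo H g : Set (PSL2 F)) with hMdef
  set M' := Subgroup.normalizer (clo H h : Set (PSL2 F)) with hM'def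
  have hCM : Cent g ≤ M := cent_le_normalizer_clo H g
  have hCM' : Cent h ≤ M' := cent_le_normalizer_clo H h
  have hg2 := mul_self_of_order_two hg
  have hh2 := mul_self_of_order_two hh
  have hg1 : g ≠ 1 := fun e => by rw [e, orderOf_one] at hg; omega
  have hh1 : h ≠ 1 := fun e => by rw [e, orderOf_one] at hh; omega
  have hgh1 : g * h ≠ 1 := fun e => hne (mul_left_cancel (e.trans hg2.symm)).symm
  have hgh2 : g * h * (g * h) = 1 := by
    rw [mul_assoc, ← mul_assoc h g h, ← hgh, mul_assoc g h h, hh2, mul_one, hg2]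
  have hout : ∀ z, orderOf z = 2 → z ∉ clo H g → ¬ Cent z ≤ M := by
    intro z hz hzK hle
    obtain ⟨r, hr⟩ := hall z hz
    apply hzK
    rw [← hr.pow, show (4 : ℕ) / 2 = 2 from rfl, sq]
    exact hsq r (hle hr.mem)
  have hkK : g * h ∉ clo H g := fun hk => hnot (by
    have := mul_mem (self_mem_clo H g) hk
    rwa [← mul_assoc, hg2, one_mul] at this)
  have hk2 : orderOf (g * h) = 2 := orderOf_two_of_mul_self hgh2 hgh1
  have hgC : g ∈ Cent g := mem_cent.2 rfl
  have hhC : h ∈ Cent g := mem_cent.2 hgh.symm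
  set V := Dickson.fourGroup g h hg2 hh2 hgh with hV
  have hVcard : Nat.card V = 4 := Dickson.card_fourGroup hg2 hh2 hgh hg1 hh1 hne
  have hVC : ∀ v ∈ V, v ∈ Cent g ∧ v ∈ Cent h := by
    rintro v (rfl | rfl | rfl | rfl)
    · exact ⟨one_mem _, one_mem _⟩
    · exact ⟨hgC, mem_cent.2 hgh⟩
    · exact ⟨hhC, mem_cent.2 rfl⟩
    · exact ⟨mul_mem hgC hhC, mul_mem (mem_cent.2 hgh) (mem_cent.2 rfl)⟩
  set L := M ⊓ M' with hL
  have hVL : V ≤ L := fun v hv => ⟨hCM (hVC v hv).1, hCM' (hVC v hv).2⟩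
  have hxL : x ∈ L := ⟨Subgroup.le_normalizer hx, Subgroup.le_normalizer hx'⟩
  have h4L := Subgroup.card_dvd_of_le hVL
  rw [hVcard] at h4L
  have hL24 := Subgroup.card_dvd_of_le (inf_le_left : L ≤ M)
  rw [hM24] at hL24
  have hMM : M ≠ M' := fun e => hout h hh hnot (by rw [e]; exact hCM')
  have hcases : Nat.card L = 4 ∨ Nat.card L = 8 ∨ Nat.card L = 12 ∨ Nat.card L = 24 := by
    obtain ⟨c, hc⟩ := h4L
    have h6 : c ∣ 6 := by
      obtain ⟨d, hd⟩ := hL24
      rw [hc] at hd
      exact ⟨d, by rw [mul_assoc] at hd; omega⟩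
    have : c ≤ 6 := Nat.le_of_dvd (by norm_num) h6
    interval_cases c <;> norm_num at h6 <;> omega
  rcases hcases with hc | hc | hc | hc
  · have : V = L := Subgroup.eq_of_le_of_card_ge hVL (by rw [hc, hVcard])
    exact (hVC x (this ▸ hxL)).1
  · by_contra hxg
    have hxV : x ∉ V := fun hv => hxg (hVC x hv).1
    have hidx : (V.subgroupOf L).index = 2 := by
      have := (V.subgroupOf L).card_mul_index
      rw [Nat.card_congr (Subgroup.subgroupOfEquivOfLe hVL).toEquiv, hVcard, hc] at this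
      omega
    have hnormal := Subgroup.normal_of_index_eq_two hidx
    have hconj : ∀ v ∈ V, x * v * x⁻¹ ∈ V := fun v hv =>
      hnormal.conj_mem ⟨v, hVL hv⟩ hv ⟨x, hxL⟩
    have hxx : x * x ∈ V := Subgroup.mul_self_mem_of_index_two hidx (⟨x, hxL⟩ : L)
    have hxxg : x * (x * g * x⁻¹) * x⁻¹ = g := by
      have h3 := mem_cent.1 (hVC _ hxx).1
      rw [show x * (x * g * x⁻¹) * x⁻¹ = (x * x) * g * (x * x)⁻¹ by group, h3, mul_inv_cancel_right]
    obtain ⟨z, hz2, hzK, hxz, hzV⟩ : ∃ z, orderOf z = 2 ∧ z ∉ clo H g ∧ x ∈ Cent z ∧ V ≤ Cent z := by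
      rcases hconj g (Or.inr (Or.inl rfl)) with e | e | e | e
      · exact absurd (conj_eq_one_iff.1 e) hg1
      · exact absurd (mem_cent.2 (mul_inv_eq_iff_eq_mul.1 e)) hxg
      · refine ⟨g * h, hk2, hkK, mem_cent.2 ?_, fun v hv => mem_cent.2 ?_⟩
        · rw [e] at hxxg
          refine mul_inv_eq_iff_eq_mul.1 ?_
          rw [show x * (g * h) * x⁻¹ = (x * g * x⁻¹) * (x * h * x⁻¹) by group, e, hxxg, hgh]
        · rw [← mul_assoc, mem_cent.1 (hVC v hv).1, mul_assoc, mem_cent.1 (hVC v hv).2, mul_assoc]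
      · refine ⟨h, hh, hnot, mem_cent.2 ?_, fun v hv => (hVC v hv).2⟩
        rw [e] at hxxg
        refine mul_inv_eq_iff_eq_mul.1 ?_
        rw [show x * h * x⁻¹ = (x * g * x⁻¹) * (x * (g * h) * x⁻¹) by
          rw [show (x * g * x⁻¹) * (x * (g * h) * x⁻¹) = x * ((g * g) * h) * x⁻¹ by group, hg2, one_mul],
          e, hxxg]
        rw [hgh, mul_assoc, hg2, mul_one]
    apply hout z hz2 hzK
    obtain ⟨r, hr⟩ := hall z hz2
    have hVlt : V < L ⊓ Cent z := by
      refine lt_of_le_of_ne (le_inf hVL hzV) fun e => hxV ?_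
      rw [e]; exact ⟨hxL, hxz⟩
    have hgt : 4 < Nat.card (L ⊓ Cent z : Subgroup _) := by
      by_contra hle
      exact hVlt.ne (Subgroup.eq_of_le_of_card_ge hVlt.le (by rw [hVcard]; omega))
    have hd8 := Subgroup.card_dvd_of_le (inf_le_left : L ⊓ Cent z ≤ L)
    rw [hc] at hd8
    have h8 : Nat.card (L ⊓ Cent z : Subgroup _) = 8 := by
      have := Nat.le_of_dvd (by norm_num) hd8
      interval_cases Nat.card (L ⊓ Cent z : Subgroup _) <;> first | rfl | (norm_num at hd8)
    have : L ⊓ Cent z = Cent z := Subgroup.eq_of_le_of_card_ge inf_le_right (by rw [h8, hr.card])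
    exact this ▸ inf_le_left.trans inf_le_left
  · exfalso
    have hnorm : ∀ N : Subgroup (PSL2 F), L ≤ N → Nat.card N = 24 →
        N ≤ Subgroup.normalizer (L : Set (PSL2 F)) := by
      intro N hLN hN
      have h2i : (L.subgroupOf N).index = 2 := by
        have := (L.subgroupOf N).card_mul_index
        rw [Nat.card_congr (Subgroup.subgroupOfEquivOfLe hLN).toEquiv, hN, hc] at this
        omega
      exact (Subgroup.normal_subgroupOf_iff_le_normalizer hLN).1 (Subgroup.normal_of_index_eq_two h2i)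
    have hN1 := hnorm M inf_le_left hM24
    have hN2 := hnorm M' inf_le_right hM24'
    have hLne : L ≠ ⊥ ∧ L ≠ ⊤ := by
      refine ⟨fun e => by rw [e, Subgroup.card_bot] at hc; omega, fun e => ?_⟩
      have : M = ⊤ := top_le_iff.1 (e ▸ (inf_le_left : L ≤ M))
      exact normalizer_ne_top (by omega) (clo_ne hH hm hg1) this
    obtain ⟨r, hr⟩ := hall g hg
    rcases over_cent hr (normalizer_ne_top (by omega) hLne) (hCM.trans hN1) with h' | ⟨hN24, -⟩
    · exact hK ((Subgroup.le_normalizer.trans hN1).trans h')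
    · have e1 := Subgroup.eq_of_le_of_card_ge hN1 (by rw [hN24, hM24])
      have e2 := Subgroup.eq_of_le_of_card_ge hN2 (by rw [hN24, hM24'])
      exact hMM (e1.trans e2.symm)
  · exfalso
    have e1 : L = M := Subgroup.eq_of_le_of_card_ge inf_le_left (by rw [hc, hM24])
    have e2 : L = M' := Subgroup.eq_of_le_of_card_ge inf_le_right (by rw [hc, hM24'])
    exact hMM (e1.symm.trans e2)

/-- Some commuting pair escapes the closure. -/
theorem exists_escape (h2 : (2 : F) ≠ 0) (hq : 7 ≤ Fintype.card F) {H : Subgroup (PSL2 F)}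
    (hH : H ≠ ⊤) {g₀ : PSL2 F} (hg₀ : g₀ ∈ H) (h₀ : orderOf g₀ = 2) :
    ∃ g h : PSL2 F, orderOf g = 2 ∧ orderOf h = 2 ∧ g * h = h * g ∧ h ∉ clo H g := by
  by_contra hall
  push Not at hall
  have hC : ∀ x ∈ H, orderOf x = 2 → Cent x ≤ H := by
    intro x hx hx2
    obtain ⟨r, n, hd⟩ := exists_invData h2 hq hx2
    obtain ⟨j, hj, hj1, hjr⟩ := hd.refl
    have hinv : ∀ y ∈ Cent x, y * y = 1 → y ∈ H := by
      intro y hy hy2
      by_cases h1 : y = 1
      · rw [h1]; exact one_mem _
      · exact clo_le hx (hall x y hx2 (orderOf_two_of_mul_self hy2 h1) (mem_cent.1 hy).symm)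
    intro y hy
    rcases hd.either y hy with e | e
    · have hyj : y * j ∈ H := by
        refine hinv _ (mul_mem hy hj) ((hd.either _ (mul_mem hy hj)).resolve_left fun e' => hjr ?_)
        refine mul_left_cancel (a := y) ?_
        rw [← mul_assoc, e', ← mul_assoc, ← mul_assoc, e]
      have := mul_mem hyj (hinv j hj hj1)
      rwa [mul_assoc, hj1, mul_one] at this
    · exact hinv y hy e
  obtain ⟨r, n, hd⟩ := exists_invData h2 hq h₀
  obtain ⟨j, hj, hj1, hjr⟩ := hd.refl
  have hjne : j ≠ 1 := fun e => hjr (by rw [e, one_mul, mul_one])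
  have hjH : j ∈ H := hC g₀ hg₀ h₀ hj
  have hj2 : orderOf j = 2 := orderOf_two_of_mul_self hj1 hjne
  have hinj : ∀ u v : PSL2 F, orderOf u = 2 → orderOf v = 2 → Cent u ≤ Cent v → u = v := by
    intro u v hu hv hle
    by_contra hne
    obtain ⟨r', n', hd'⟩ := exists_invData h2 hq hu
    have huv : u * v = v * u := mem_cent.1 (hle (mem_cent.2 rfl))
    have hord := hd'.order
    have := hd'.four
    have hu2 := mul_self_of_order_two hu
    have hv2 := mul_self_of_order_two hv
    rcases klein_cent h2 hu hv hne huv (mem_cent.1 hd'.mem) (mem_cent.1 (hle hd'.mem)) with e | e | e | e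
    · rw [e, orderOf_one] at hord; omega
    · rw [e, hu] at hord; omega
    · rw [e, hv] at hord; omega
    · have h1 := orderOf_dvd_of_pow_eq_one (show (u * v) ^ 2 = 1 by
        rw [sq, mul_assoc, ← mul_assoc v u v, ← huv, mul_assoc u v v, hv2, mul_one, hu2])
      rw [← e, hord] at h1
      have := Nat.le_of_dvd two_pos h1
      omega
  have hgj : g₀ ≠ j := fun e => hjr (by rw [← e]; exact (mem_cent.1 hd.mem).symm)
  rcases over_cent hd hH (hC g₀ hg₀ h₀) with hle | ⟨h24, rfl⟩
  · exact hgj (hinj j g₀ hj2 h₀ ((hC j hjH hj2).trans hle)).symm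
  have hcardC : ∀ x : PSL2 F, orderOf x = 2 → Nat.card (Cent x) = 8 := by
    intro x hx
    obtain ⟨c, rfl⟩ := Dickson.isConj_involutions h2 h₀ hx
    rw [(hd.conj c).card]
  let S := {x : PSL2 F // x ∈ H ∧ orderOf x = 2}
  have hfac : (Nat.card H).factorization 2 = 3 := by
    rw [h24, show 24 = 2 ^ 3 * 3 by norm_num, Nat.factorization_mul (by norm_num) (by norm_num),
      Finsupp.add_apply, Nat.factorization_pow, Finsupp.smul_apply,
      Nat.prime_two.factorization_self, Nat.prime_three.factorization]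
    simp
  let φ : S → Sylow 2 H := fun x => Sylow.ofCard ((Cent x.1).subgroupOf H) (by
    rw [Nat.card_congr (Subgroup.subgroupOfEquivOfLe (hC x.1 x.2.1 x.2.2)).toEquiv,
      hcardC x.1 x.2.2, hfac]
    norm_num)
  have hφ : Function.Injective φ := by
    intro x y h
    have h' : (Cent x.1).subgroupOf H = (Cent y.1).subgroupOf H := by
      simpa [φ] using congrArg (fun P : Sylow 2 H => (P : Subgroup H)) h
    rw [Subgroup.subgroupOf_inj, inf_of_le_left (hC x.1 x.2.1 x.2.2),
      inf_of_le_left (hC y.1 y.2.1 y.2.2)] at h'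
    exact Subtype.ext (hinj _ _ x.2.2 y.2.2 h'.le)
  have hle3 : Nat.card (Sylow 2 H) ≤ 3 := by
    obtain ⟨P⟩ := (inferInstance : Nonempty (Sylow 2 H))
    have h1 := P.card_dvd_index
    have h2' := (P : Subgroup H).card_mul_index
    rw [P.card_eq_multiplicity, hfac, h24] at h2'
    exact Nat.le_of_dvd (by norm_num) (by
      rwa [show (P : Subgroup H).index = 3 by omega] at h1)
  have hge5 : 5 ≤ Nat.card S := by
    have hrC : ∀ i : ℕ, j * r ^ i ∈ Cent g₀ := fun i => mul_mem hj (pow_mem hd.mem i)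
    have hsq : ∀ i : ℕ, (j * r ^ i) * (j * r ^ i) = 1 := fun i =>
      (hd.either _ (hrC i)).resolve_left fun e => hjr (by
        refine mul_right_cancel (b := r ^ i) ?_
        rw [mul_assoc, mul_assoc r, ← e, mul_assoc, ← pow_succ, ← pow_succ'])
    have hne : ∀ i : ℕ, j * r ^ i ≠ 1 := fun i e => hjr (by
      rw [eq_inv_of_mul_eq_one_left e]
      exact ((Commute.refl r).pow_left i).inv_left.eq)
    let ψ : Option (Fin 4) → S := fun o => match o with
      | none => ⟨g₀, hg₀, h₀⟩
      | some i => ⟨j * r ^ (i : ℕ), hC g₀ hg₀ h₀ (hrC i), orderOf_two_of_mul_self (hsq i) (hne i)⟩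
    have hψ : Function.Injective ψ := by
      have hg : ∀ i : ℕ, g₀ ≠ j * r ^ i := fun i e => hjr (by
        rw [eq_mul_inv_of_mul_eq e.symm]
        have h1 : g₀ * r = r * g₀ := (mem_cent.1 hd.mem).symm
        exact ((show Commute g₀ r from h1).mul_left ((Commute.refl r).pow_left i).inv_left).eq)
      rintro (_ | a) (_ | b) e' <;> have e := congrArg Subtype.val e'
      · rfl
      · exact absurd e (hg _)
      · exact absurd e.symm (hg _)
      · congr 1
        exact Fin.ext (pow_injOn_Iio_orderOf (lt_of_lt_of_eq a.2 hd.order.symm)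
          (lt_of_lt_of_eq b.2 hd.order.symm) (mul_left_cancel e))
    have := Nat.card_le_card_of_injective ψ hψ
    simpa using this
  have := Nat.card_le_card_of_injective φ hφ
  omega

theorem not_binary_inv (h2 : (2 : F) ≠ 0) (hq : 7 ≤ Fintype.card F) {H : Subgroup (PSL2 F)}
    (hH : H ≠ ⊤) {g₀ : PSL2 F} (hg₀ : g₀ ∈ H) (h₀ : orderOf g₀ = 2) : ¬ Binary H := by
  obtain ⟨g, h, hg, hh, hgh, hnot⟩ := exists_escape h2 hq hH hg₀ h₀
  have hne : g ≠ h := fun e => hnot (e ▸ self_mem_clo H g)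
  have hg2 := mul_self_of_order_two hg
  have hh2 := mul_self_of_order_two hh
  obtain ⟨c, c1, c2, c3⟩ := exists_cycle h2 hg hh hne hgh
  obtain ⟨u, hu⟩ := Dickson.isConj_involutions h2 h₀ hg
  have hm : Meets H g := hu ▸ meets_conj u (meets_of_mem hg₀)
  have hm' : Meets H h := c1 ▸ meets_conj c hm
  have hmk : Meets H (g * h) := c2 ▸ meets_conj c hm'
  have d1 : c⁻¹ * h * c = g := by rw [← c1]; group
  have d2 : c⁻¹ * (g * h) * c = h := by rw [← c2]; group
  have d3 : c⁻¹ * g * c = g * h := by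
    calc c⁻¹ * g * c = c⁻¹ * (c * (g * h) * c⁻¹) * c := by rw [c3]
      _ = _ := by group
  have hk : g * h ∉ clo H g := fun hk => hnot (by
    have := mul_mem (self_mem_clo H g) hk
    rwa [← mul_assoc, hg2, one_mul] at this)
  have hgh' : g ∉ clo H h := fun h' => hk (by
    have := conj_mem_clo c⁻¹ h'
    simpa [d1, d3] using this)
  have hgk : g ∉ clo H (g * h) := fun h' => hnot (by
    have := conj_mem_clo c⁻¹ (conj_mem_clo c⁻¹ h')
    simpa [d1, d2, d3] using this)
  refine not_binary (g := g) (h := h) (k := g * h) ?_ hm hm' hmk fun x hx hx' hxk => ?_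
  · rw [← mul_assoc, ← hgh, mul_assoc, hh2, mul_one]
  have x1 := inter_le h2 hq hH hg hh hne hgh hm hnot hx hx'
  have x2 := inter_le h2 hq hH hh hg hne.symm hgh.symm hm' hgh' hx' hx
  rcases klein_cent h2 hg hh hne hgh (mem_cent.1 x1) (mem_cent.1 x2) with rfl | rfl | rfl | rfl
  · exact hgk (by simpa using hxk)
  · exact hgh' hx'
  · exact hnot hx
  · exact hk hx

end Cfsg.Agent.MaxSub.BinaryPSL
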