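import Cfsg.Agent.MaxSub.BinaryPSL.Basic
import Cfsg.Agent.Lib.Dickson.Involutions

/-!
Centralisers of involutions of `PSL₂(F)`, `|F|` odd, and their overgroups.
-/

set_option autoImplicit false

namespace Cfsg.Agent.MaxSub.BinaryPSL

open Matrix MulAction OnePoint
open scoped MatrixGroups
open Cfsg.Agent.Dickson (PSL2)

attribute [local instance] Cfsg.Agent.PLocalB.lineAction Cfsg.Agent.Dickson.pslLine

variable {F : Type*} [Field F] [Fintype F]

/-- The centraliser of `g`. -/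
abbrev Cent (g : PSL2 F) : Subgroup (PSL2 F) := Subgroup.centralizer ({g} : Set (PSL2 F))

omit [Fintype F] in
theorem mem_cent {g x : PSL2 F} : x ∈ Cent g ↔ x * g = g * x :=
  Subgroup.mem_centralizer_singleton_iff

/-- Data of the centraliser of an involution: it is dihedral with rotation `r`. -/
structure InvData (g r : PSL2 F) (n : ℕ) : Prop where
  four : 4 ≤ n
  even : Even n
  bound : Fintype.card F ≤ 2 * n + 1
  kind : 2 * n + 1 = Fintype.card F ∨ 2 * n = Fintype.card F + 1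
  order : orderOf r = n
  mem : r ∈ Cent g
  pow : r ^ (n / 2) = g
  card : Nat.card (Cent g) = 2 * n
  refl : ∃ j ∈ Cent g, j * j = 1 ∧ j * r ≠ r * j
  either : ∀ x ∈ Cent g, x * r = r * x ∨ x * x = 1
  moving : ∀ w : OnePoint F, ∃ h ∈ Cent g, h • w ≠ w

theorem InvData.conj {g r : PSL2 F} {n : ℕ} (h : InvData g r n) (c : PSL2 F) :
    InvData (c * g * c⁻¹) (c * r * c⁻¹) n := by
  have hmem : ∀ x, c * x * c⁻¹ ∈ Cent (c * g * c⁻¹) ↔ x ∈ Cent g := fun x => by
    simp [mem_cent]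
  have hmem' : ∀ x, x ∈ Cent (c * g * c⁻¹) → c⁻¹ * x * c ∈ Cent g := fun x hx => by
    rw [← hmem]; simpa [mul_assoc] using hx
  refine ⟨h.four, h.even, h.bound, h.kind, ?_, (hmem r).2 h.mem, ?_, ?_, ?_, ?_, fun w => ?_⟩
  · rw [← h.order]; exact orderOf_injective (MulAut.conj c).toMonoidHom (MulAut.conj c).injective r
  · rw [conj_pow, h.pow]
  · rw [← h.card]
    refine (Nat.card_congr ⟨fun x => ⟨c * x.1 * c⁻¹, (hmem _).2 x.2⟩,
      fun x => ⟨c⁻¹ * x.1 * c, hmem' _ x.2⟩, fun x => ?_, fun x => ?_⟩).symm <;>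
      exact Subtype.ext (by simp [mul_assoc])
  · obtain ⟨j, hj, hj1, hjr⟩ := h.refl
    refine ⟨c * j * c⁻¹, (hmem j).2 hj, by rw [show c * j * c⁻¹ * (c * j * c⁻¹) = c * (j * j) * c⁻¹ by group, hj1]; group, fun e => hjr ?_⟩
    have := congrArg (fun x => c⁻¹ * x * c) e
    simpa [mul_assoc] using this
  · intro x hx
    refine (h.either _ (hmem' x hx)).imp (fun e => ?_) (fun e => ?_)
    · have := congrArg (fun x => c * x * c⁻¹) e
      simpa [mul_assoc] using this
    · have := congrArg (fun x => c * x * c⁻¹) e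
      simpa [mul_assoc] using this
  · obtain ⟨x, hx, hxw⟩ := h.moving (c⁻¹ • w)
    refine ⟨c * x * c⁻¹, (hmem x).2 hx, fun e => hxw ?_⟩
    rw [mul_smul, mul_smul, ← eq_inv_smul_iff] at e
    exact e

/-- The centraliser of some involution is dihedral of order `2n`, `n` even. -/
theorem exists_centralizer_dihedral' (h2 : (2 : F) ≠ 0) :
    ∃ (z : PSL2 F) (N : Subgroup (PSL2 F)) (n : ℕ) (e : N ≃* DihedralGroup n), 2 ≤ n ∧ Even n ∧
      orderOf z = 2 ∧ Subgroup.centralizer ({z} : Set (PSL2 F)) = N ∧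
      ((e.symm (DihedralGroup.r ((n / 2 : ℕ) : ZMod n)) : N) : PSL2 F) = z ∧
      (2 * n + 1 = Fintype.card F ∨ 2 * n = Fintype.card F + 1) ∧
      (∀ w : OnePoint F, ∃ h ∈ N, h • w ≠ w) := by
  obtain ⟨p, hp⟩ := CharP.exists F
  obtain ⟨k, hpp, -⟩ := FiniteField.card F p
  haveI := Fact.mk hpp
  have hq := Fintype.one_lt_card (α := F)
  obtain ⟨hd, hodd⟩ : Nat.gcd 2 (Fintype.card F - 1) = 2 ∧ Fintype.card F % 2 = 1 := by
    rcases Dickson.d_even_or_odd (F := F) with ⟨-, h⟩ | h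
    · exfalso
      exact h2 (by
        have : ringChar F = 2 := FiniteField.even_card_iff_char_two.mpr h
        exact_mod_cast (ringChar.spec F 2).mpr (by rw [this]))
    · exact h
  obtain ⟨N, n, hN, hneven⟩ : ∃ (N : Subgroup (PSL2 F)) (n : ℕ), Dickson.IsTorusNorm N n ∧ Even n := by
    rcases (by omega : Fintype.card F % 4 = 1 ∨ Fintype.card F % 4 = 3) with h | h
    · obtain ⟨N, hN⟩ := Dickson.exists_torus_minus (F := F) (by rw [hd]; omega)
      exact ⟨N, _, hN, Nat.even_iff.mpr (by rw [hd]; omega)⟩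
    · obtain ⟨N, hN⟩ := Dickson.exists_torus_plus (F := F)
      exact ⟨N, _, hN, Nat.even_iff.mpr (by rw [hd]; omega)⟩
  obtain ⟨hn2, ⟨e⟩, hmv, hkind⟩ := id hN
  obtain ⟨j, rfl⟩ := hneven
  have hm : (((j + j) / 2 : ℕ) : ZMod (j + j)) + (((j + j) / 2 : ℕ) : ZMod (j + j)) = 0 := by
    rw [← Nat.cast_add, show (j + j) / 2 + (j + j) / 2 = j + j by omega, ZMod.natCast_self]
  obtain ⟨m, hm', hj⟩ : ∃ m : ZMod (j + j), m + m = 0 ∧ m = (((j + j) / 2 : ℕ) : ZMod (j + j)) :=
    ⟨_, hm, rfl⟩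
  rw [hd] at hkind
  have hkd : 2 * (j + j) + 1 = Fintype.card F ∨ 2 * (j + j) = Fintype.card F + 1 := by omega
  have hz : orderOf ((e.symm (DihedralGroup.r m) : N) : PSL2 F) = 2 := by
    rw [Subgroup.orderOf_coe, MulEquiv.orderOf_eq]
    refine orderOf_eq_prime (by rw [pow_two, DihedralGroup.r_mul_r, hm', DihedralGroup.r_zero]) ?_
    rw [DihedralGroup.one_def, ne_eq, DihedralGroup.r.injEq, hj, ZMod.natCast_eq_zero_iff]
    intro h
    have := Nat.le_of_dvd (by omega) h
    omega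
  refine ⟨_, N, j + j, e, hn2, ⟨j, rfl⟩, hz, ?_, by rw [hj], hkd, hmv⟩
  have hle : N ≤ Subgroup.centralizer ({((e.symm (DihedralGroup.r m) : N) : PSL2 F)} : Set _) := by
    intro h hh
    rw [Subgroup.mem_centralizer_singleton_iff]
    have hcomm : DihedralGroup.r m * e ⟨h, hh⟩ = e ⟨h, hh⟩ * DihedralGroup.r m := by
      generalize e ⟨h, hh⟩ = x
      rcases x with i | i
      · rw [DihedralGroup.r_mul_r, DihedralGroup.r_mul_r, add_comm m i]
      · rw [DihedralGroup.r_mul_sr, DihedralGroup.sr_mul_r]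
        congr 1
        linear_combination -hm'
    have := congrArg (fun x => ((e.symm x : N) : PSL2 F)) hcomm
    simpa [eq_comm] using this
  refine le_antisymm ?_ hle
  obtain ⟨N', n', hN', -, hdvd, hnorm, -⟩ := Dickson.torus_of p (g := ((e.symm (DihedralGroup.r m) : N) : PSL2 F))
    (fun h => by rw [h, orderOf_one] at hz; omega)
    (by
      rw [hz, Nat.coprime_primes Nat.prime_two hpp]
      rintro rfl
      exact h2 (by exact_mod_cast CharP.cast_eq_zero F 2))
  have hC : Subgroup.centralizer ({((e.symm (DihedralGroup.r m) : N) : PSL2 F)} : Set _) ≤ N' := by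
    intro h hh
    refine hnorm h ?_
    rw [Subgroup.mem_centralizer_singleton_iff] at hh
    rw [hh, mul_inv_cancel_right]
    exact Subgroup.mem_zpowers _
  have hc := Subgroup.card_dvd_of_le (hle.trans hC)
  rw [Dickson.card_torusNorm hN, Dickson.card_torusNorm hN'] at hc
  have hnn := Nat.dvd_of_mul_dvd_mul_left two_pos hc
  obtain ⟨c, hc'⟩ := hnn
  obtain ⟨hn'2, -, -, hkind'⟩ := id hN'
  rw [hd] at hkind'
  have hn' : n' = j + j := by
    have hev : n' = 2 * (j * c) := by rw [hc']; ring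
    rcases hkind with h | h <;> rcases hkind' with h' | h' <;> omega
  refine hC.trans (le_of_eq (Subgroup.eq_of_le_of_card_ge (hle.trans hC) ?_).symm)
  rw [Dickson.card_torusNorm hN, Dickson.card_torusNorm hN', hn']

theorem exists_invData (h2 : (2 : F) ≠ 0) (hq : 7 ≤ Fintype.card F) {g : PSL2 F}
    (hg : orderOf g = 2) : ∃ r n, InvData g r n := by
  obtain ⟨z, N, n, e, hn2, hneven, hz, hC, hzr, hkind, hmov⟩ := exists_centralizer_dihedral' h2
  obtain ⟨c, rfl⟩ := Dickson.isConj_involutions h2 hz hg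
  have h4 : 4 ≤ n := by
    obtain ⟨j, rfl⟩ := hneven
    omega
  set r : PSL2 F := ((e.symm (DihedralGroup.r 1) : N) : PSL2 F) with hr
  suffices h : InvData z r n from ⟨_, n, h.conj c⟩
  have hC' : Cent z = N := hC
  refine ⟨h4, hneven, by omega, hkind, ?_, (SetLike.ext_iff.1 hC' _).2 (SetLike.coe_mem _), ?_, ?_, ?_, ?_,
    fun w => (hmov w).imp fun x hx => ⟨(SetLike.ext_iff.1 hC' _).2 hx.1, hx.2⟩⟩
  · rw [hr, Subgroup.orderOf_coe, MulEquiv.orderOf_eq, DihedralGroup.orderOf_r_one]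
  · rw [← hzr, hr, ← Subgroup.coe_pow, ← map_pow, DihedralGroup.r_one_pow]
  · rw [hC', Nat.card_congr e.toEquiv, DihedralGroup.nat_card]
  · refine ⟨((e.symm (DihedralGroup.sr 0) : N) : PSL2 F), (SetLike.ext_iff.1 hC' _).2 (SetLike.coe_mem _), ?_, fun h => ?_⟩
    · rw [← Subgroup.coe_mul, ← map_mul, DihedralGroup.sr_mul_self, map_one, Subgroup.coe_one]
    · rw [hr, ← Subgroup.coe_mul, ← Subgroup.coe_mul, ← map_mul, ← map_mul] at h
      have h' := e.symm.injective (Subtype.ext h)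
      rw [DihedralGroup.sr_mul_r, DihedralGroup.r_mul_sr] at h'
      simp at h'
      have h2' : ((2 : ℕ) : ZMod n) = 0 := by push_cast; linear_combination h'
      rw [ZMod.natCast_eq_zero_iff] at h2'
      have := Nat.le_of_dvd two_pos h2'
      omega
  · intro x hx
    rw [hC'] at hx
    obtain ⟨y, hy⟩ := e.symm.surjective ⟨x, hx⟩
    have hx' : x = ((e.symm y : N) : PSL2 F) := by rw [hy]
    rw [hx', hr]
    rcases y with i | i
    · left
      rw [← Subgroup.coe_mul, ← Subgroup.coe_mul, ← map_mul, ← map_mul, DihedralGroup.r_mul_r,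
        DihedralGroup.r_mul_r, add_comm]
    · right
      rw [← Subgroup.coe_mul, ← map_mul, DihedralGroup.sr_mul_self, map_one, Subgroup.coe_one]

end Cfsg.Agent.MaxSub.BinaryPSL
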