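import Cfsg.Agent.MaxSub.BinaryPSL.Semi

/-!
Unipotent elements in point stabilisers.
-/

set_option autoImplicit false

namespace Cfsg.Agent.MaxSub.BinaryPSL

open Matrix
open scoped MatrixGroups
open Cfsg.Agent.PLocalB (upper lower)
open Cfsg.Agent.Dickson (PSL2)

variable {F : Type*} [Field F]

/-- The unipotent radical of the stabiliser of infinity. -/
def InU (y : PSL2 F) : Prop := ∃ r : F, y = mk (upper r)

theorem inU_of_diag {Y : SL(2, F)} (h : Y 1 0 = 0) (h1 : Y 0 0 ^ 2 = 1) : InU (mk Y) := by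
  have hd : Y 0 0 * Y 1 1 = 1 := by
    have := (det_fin_two _).symm.trans Y.2
    rw [h] at this; linear_combination this
  rcases sq_eq_one_iff.1 h1 with e | e
  · refine ⟨Y 0 1, congrArg mk ?_⟩
    ext i j
    fin_cases i <;> fin_cases j <;> simp [h, e]
    rw [e, one_mul] at hd; exact hd
  · refine ⟨-Y 0 1, Dickson.mk_eq_mk_iff.2 (Or.inr ?_)⟩
    ext i j
    fin_cases i <;> fin_cases j <;> simp [h, e]
    rw [e] at hd; linear_combination -hd

theorem upper_inj {r r' : F} (h : mk (upper r) = mk (upper r')) : r = r' := by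
  rcases Dickson.mk_eq_mk_iff.1 h with e | e
  · have := congrArg (fun M : SL(2, F) => M 0 1) e
    simpa using this
  · have h11 := congrArg (fun M : SL(2, F) => M 1 1) e
    have h01 := congrArg (fun M : SL(2, F) => M 0 1) e
    simp at h11 h01
    linear_combination h01 - r' * h11

theorem upper_sq_conj (d : F) (hd : d ≠ 0) :
    ∃ D : SL(2, F), ∀ r, D * upper r * D⁻¹ = upper (d ^ 2 * r) := by
  obtain ⟨D, hD⟩ : ∃ D : SL(2, F), (D : Matrix (Fin 2) (Fin 2) F) = !![d, 0; 0, d⁻¹] :=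
    ⟨⟨_, by rw [det_fin_two_of]; simp [hd]⟩, rfl⟩
  refine ⟨D, fun r => ?_⟩
  rw [upper_conj D (by simp [hD]) r]
  simp [hD]

variable [Fintype F]

theorem inU_clo {H : Subgroup (PSL2 F)} (hq : 4 ≤ Fintype.card F) (hH : H ≠ ⊤) {s : F} (hs : s ≠ 0)
    (hmem : mk (upper s) ∈ H)
    (hNB : ¬ ((∀ y ∈ H, Up y) ∧ ∃ A : SL(2, F), A 1 0 = 0 ∧ mk A ∈ H ∧ A 0 0 ^ 2 ≠ 1))
    {y : PSL2 F} (hy : y ∈ clo H (mk (upper s))) : InU y := by
  set K := clo H (mk (upper s)) with hK
  have hKH : K ≤ H := clo_le hmem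
  have hcomm : ∀ r, mk (upper r) * mk (upper s) = mk (upper s) * mk (upper r) := fun r => by
    rw [← mk_mul, ← mk_mul, PLocalB.upper_mul, PLocalB.upper_mul, add_comm]
  have hUN : ∀ r, mk (upper r) ∈ Subgroup.normalizer (K : Set (PSL2 F)) := by
    intro r
    rw [Subgroup.mem_normalizer_iff]
    refine fun z => ⟨normalises_clo (hcomm r), fun hz => ?_⟩
    have := normalises_clo (c := (mk (upper r))⁻¹)
      (Commute.inv_left (show Commute (mk (upper r)) (mk (upper s)) from hcomm r)).eq hz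
    simpa [mul_assoc] using this
  have hup : Up y := by
    by_contra hy'
    have htop := top_of_upper hUN (Subgroup.le_normalizer hy) hy'
    haveI : K.Normal := Subgroup.normalizer_eq_top_iff.1 htop
    haveI : IsSimpleGroup (PSL2 F) :=
      Matrix.ProjectiveSpecialLinearGroup.rank_two_simple (by rwa [Nat.card_eq_fintype_card])
    rcases IsSimpleGroup.eq_bot_or_eq_top_of_normal K inferInstance with e | e
    · have h1 : mk (upper s) ∈ K := self_mem_clo _ _
      rw [e, Subgroup.mem_bot] at h1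
      rcases mk_eq_one_iff.1 h1 with e' | e' <;>
        (have := congrArg (fun M : SL(2, F) => M 0 1) e'; simp at this; exact hs this)
    · exact hH (top_le_iff.1 (e ▸ hKH))
  obtain ⟨Y, rfl, hY⟩ := hup
  refine inU_of_diag hY ?_
  by_contra h1
  have hU : ∀ r, mk (upper r) ∈ H := by
    intro r
    have hne : 1 - Y 0 0 ^ 2 ≠ 0 := sub_ne_zero.2 (Ne.symm h1)
    set w := r / (1 - Y 0 0 ^ 2) with hw
    have h2 : mk (upper w) * mk Y * (mk (upper w))⁻¹ * (mk Y)⁻¹ ∈ K :=
      mul_mem (normalises_clo (hcomm w) hy) (inv_mem hy)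
    have e : upper w * Y * (upper w)⁻¹ * Y⁻¹ = upper r := by
      rw [show upper w * Y * (upper w)⁻¹ * Y⁻¹ = upper w * (Y * (upper w)⁻¹ * Y⁻¹) by group,
        PLocalB.upper_inv, upper_conj Y hY, PLocalB.upper_mul]
      congr 1
      rw [hw]; field_simp; ring
    rw [← mk_inv, ← mk_inv, ← mk_mul, ← mk_mul, ← mk_mul, e] at h2
    exact hKH h2
  refine hNB ⟨fun z hz => ?_, Y, hY, hKH hy, h1⟩
  by_contra hz'
  exact hH (top_of_upper hU hz hz')

/-- Odd characteristic: three non-commuting conjugates of a unipotent element. -/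
theorem not_binary_uni_odd {H : Subgroup (PSL2 F)} (h2 : (2 : F) ≠ 0) {s : F} (hs : s ≠ 0)
    (hmem : mk (upper s) ∈ H) (hU : ∀ y ∈ clo H (mk (upper s)), InU y) : ¬ Binary H := by
  have hm : Meets H (mk (upper s)) := meets_of_mem hmem
  -- the closure of a conjugate
  have hcl : ∀ (P : SL(2, F)) (y : PSL2 F), y ∈ clo H (mk (P * upper s * P⁻¹)) →
      ∃ r, y = mk (P * upper r * P⁻¹) := by
    intro P y hy
    rw [mk_conj, mem_clo_conj_iff] at hy
    obtain ⟨r, hr⟩ := hU _ hy
    refine ⟨r, ?_⟩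
    rw [mk_conj, ← hr]; group
  obtain ⟨J, hJ⟩ : ∃ J : SL(2, F), (J : Matrix (Fin 2) (Fin 2) F) = !![0, -1; 1, 0] :=
    ⟨⟨_, by simp [det_fin_two_of]⟩, rfl⟩
  have hs2 : (2 : F) / s ≠ 0 := div_ne_zero h2 hs
  obtain ⟨D, hD⟩ := upper_sq_conj _ hs2
  have hs1 : (1 : F) / s ≠ 0 := div_ne_zero one_ne_zero hs
  obtain ⟨E, hE⟩ := upper_sq_conj _ hs1
  obtain ⟨P, hP⟩ : ∃ P : SL(2, F), (P : Matrix (Fin 2) (Fin 2) F) = !![s, 0; 2, 1 / s] :=
    ⟨⟨_, by rw [det_fin_two_of]; field_simp; ring⟩, rfl⟩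
  set B := (J * D) * upper s * (J * D)⁻¹ with hB
  set C := (P * E) * upper s * (P * E)⁻¹ with hC
  have hBe : B = lower (-4 / s) := by
    have e : B = J * upper (4 / s) * J⁻¹ := by
      rw [hB, show (4 : F) / s = (2 / s) ^ 2 * s by field_simp; ring, ← hD s]; group
    rw [e, mul_inv_eq_iff_eq_mul]
    ext i j
    fin_cases i <;> fin_cases j <;> simp [Matrix.mul_apply, Fin.sum_univ_two, hJ] <;> ring
  have hCe : C = P * upper (1 / s) * P⁻¹ := by
    rw [hC, show (1 : F) / s = (1 / s) ^ 2 * s by field_simp, ← hE s]; group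
  have hprod : upper s * B = -C⁻¹ := by
    rw [hBe, hCe, show (P * upper (1 / s) * P⁻¹)⁻¹ = P * (upper (1 / s))⁻¹ * P⁻¹ by group,
      PLocalB.upper_inv, eq_comm, neg_eq_iff_eq_neg, mul_inv_eq_iff_eq_mul]
    ext i j
    fin_cases i <;> fin_cases j <;> simp [Matrix.mul_apply, Fin.sum_univ_two, hP] <;>
      field_simp <;> ring
  have hmC : Meets H (mk C)⁻¹ := by
    obtain ⟨x, hx⟩ : Meets H (mk C) := meets_conj (mk (P * E)) hm
    exact ⟨x, by simpa [mul_assoc] using inv_mem hx⟩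
  refine not_binary' (g := (mk C)⁻¹) (h := mk (upper s)) (k := mk B)
    (by rw [← mk_mul, hprod, ← mk_inv]; exact (SL2Tor.psl_mk_neg _).symm) hmC hm
    (meets_conj (mk (J * D)) hm) ?_ ?_
  · intro x hx hx'
    rw [clo_inv, hC] at hx
    obtain ⟨r, hr⟩ := hcl _ _ hx
    obtain ⟨r', rfl⟩ := hU x hx'
    have : r' = 0 := by
      rw [show P * E * upper r * (P * E)⁻¹ = P * (E * upper r * E⁻¹) * P⁻¹ by group, hE] at hr
      generalize (1 / s) ^ 2 * r = w at hr
      rcases Dickson.mk_eq_mk_iff.1 hr with e | e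
      · rw [eq_mul_inv_iff_mul_eq] at e
        have h10 := congrArg (fun M : SL(2, F) => M 1 0) e
        have h00 := congrArg (fun M : SL(2, F) => M 0 0) e
        simp [Matrix.mul_apply, Fin.sum_univ_two, hP] at h00
        rcases h00 with h | h
        · exact h
        · exact absurd h h2
      · rw [← neg_eq_iff_eq_neg, eq_mul_inv_iff_mul_eq] at e
        have h10 := congrArg (fun M : SL(2, F) => M 1 0) e
        simp [Matrix.mul_apply, Fin.sum_univ_two, hP] at h10
        exact absurd (by linear_combination -h10 : (2 : F) * 2 = 0) (mul_ne_zero h2 h2)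
    rw [this, PLocalB.upper_zero]; rfl
  · intro hg
    rw [hB] at hg
    obtain ⟨r, hr⟩ := hcl _ _ hg
    rw [show J * D * upper r * (J * D)⁻¹ = J * (D * upper r * D⁻¹) * J⁻¹ by group, hD] at hr
    generalize (2 / s) ^ 2 * r = w at hr
    have hr' : mk (upper s * B) = mk (J * upper w * J⁻¹) := by
      rw [hprod]; exact (SL2Tor.psl_mk_neg _).trans hr
    rcases Dickson.mk_eq_mk_iff.1 hr' with e | e
    · rw [eq_mul_inv_iff_mul_eq, hBe] at e
      have h01 := congrArg (fun M : SL(2, F) => M 0 0) e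
      simp [Matrix.mul_apply, Fin.sum_univ_two, hJ] at h01
      exact hs h01
    · rw [← neg_eq_iff_eq_neg, eq_mul_inv_iff_mul_eq, hBe] at e
      have h01 := congrArg (fun M : SL(2, F) => M 0 0) e
      simp [Matrix.mul_apply, Fin.sum_univ_two, hJ] at h01
      exact hs h01

/-- Characteristic two: commuting involutions. -/
theorem not_binary_uni_two {H : Subgroup (PSL2 F)} [CharP F 2] {s : F} (hs : s ≠ 0)
    (hmem : mk (upper s) ∈ H) (hU : ∀ y ∈ clo H (mk (upper s)), InU y)
    (hnot : ¬ ∀ r, mk (upper r) ∈ H) : ¬ Binary H := by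
  have hsq : ∀ c : F, c ≠ 0 → ∃ D : SL(2, F), ∀ r, D * upper r * D⁻¹ = upper (c * r) := by
    intro c hc
    obtain ⟨d, hd⟩ := FiniteField.isSquare_of_char_two (ringChar.eq F 2) c
    have hd0 : d ≠ 0 := fun e => hc (by rw [hd, e, zero_mul])
    obtain ⟨D, hD⟩ := upper_sq_conj d hd0
    exact ⟨D, fun r => by rw [hD, hd, sq]⟩
  -- the closure, scaled
  have hscale : ∀ c r : F, c ≠ 0 → (mk (upper (c * r)) ∈ clo H (mk (upper (c * s))) ↔
      mk (upper r) ∈ clo H (mk (upper s))) := by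
    intro c r hc
    obtain ⟨D, hD⟩ := hsq c hc
    rw [← hD, ← hD, mk_conj, mk_conj, mem_clo_conj_iff]
    simp [mul_assoc]
  have hinU : ∀ c : F, c ≠ 0 → ∀ y ∈ clo H (mk (upper (c * s))), InU y := by
    intro c hc y hy
    obtain ⟨D, hD⟩ := hsq c hc
    rw [← hD, mk_conj, mem_clo_conj_iff] at hy
    obtain ⟨r, hr⟩ := hU _ hy
    refine ⟨c * r, ?_⟩
    rw [← hD, mk_conj, ← hr]; group
  let W : Set F := {c | mk (upper (c * s)) ∈ clo H (mk (upper s))}
  have hadd : ∀ a ∈ W, ∀ b ∈ W, a + b ∈ W := by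
    intro a ha b hb
    show mk (upper ((a + b) * s)) ∈ clo H (mk (upper s))
    rw [add_mul, ← PLocalB.upper_mul, mk_mul]
    exact mul_mem ha hb
  have hmul : ∀ a ∈ W, ∀ b ∈ W, a * b ∈ W := by
    intro a ha b hb
    by_cases ha0 : a = 0
    · rw [ha0, zero_mul]; exact ha0 ▸ ha
    refine clo_le_of_mem ha ?_
    rw [mul_assoc]
    exact (hscale a (b * s) ha0).2 hb
  have hone : (1 : F) ∈ W := by
    show mk (upper (1 * s)) ∈ clo H (mk (upper s))
    rw [one_mul]; exact self_mem_clo _ _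
  obtain ⟨z, hz⟩ : ∃ z, z ∉ W := by
    by_contra hall
    push Not at hall
    exact hnot fun r => clo_le hmem (by simpa [W, hs] using hall (r / s))
  have hz0 : z ≠ 0 := fun e => hz (by
    show mk (upper (z * s)) ∈ clo H (mk (upper s))
    rw [e, zero_mul, PLocalB.upper_zero]; exact one_mem _)
  have hz1 : 1 + z ≠ 0 := fun e => hz (by
    rw [show z = 1 by linear_combination e - (CharTwo.two_eq_zero (R := F))]; exact hone)
  have hmeet : ∀ c : F, c ≠ 0 → Meets H (mk (upper (c * s))) := by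
    intro c hc
    obtain ⟨D, hD⟩ := hsq c hc
    rw [← hD, mk_conj]
    exact meets_conj _ (meets_of_mem hmem)
  have hinv : ∀ c ∈ W, c ≠ 0 → c⁻¹ ∈ W := by
    intro c hc hc0
    have hpow : ∀ n : ℕ, c ^ n ∈ W := fun n => by
      induction n with
      | zero => simpa using hone
      | succ n ih => rw [pow_succ]; exact hmul _ ih _ hc
    have h1 := FiniteField.pow_card_sub_one_eq_one c hc0
    have h2 : c⁻¹ = c ^ (Fintype.card F - 1 - 1) := by
      apply inv_eq_of_mul_eq_one_right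
      rw [← pow_succ', show Fintype.card F - 1 - 1 + 1 = Fintype.card F - 1 by
        have := Fintype.one_lt_card (α := F); omega]
      exact h1
    rw [h2]; exact hpow _
  refine not_binary' (g := mk (upper s)) (h := mk (upper (z * s))) (k := mk (upper ((1 + z) * s)))
    (by rw [← mk_mul, PLocalB.upper_mul]; congr 2; linear_combination -(z * s) * (CharTwo.two_eq_zero (R := F)))
    (meets_of_mem hmem) (hmeet z hz0) (hmeet _ hz1) ?_ ?_
  · intro x hx hx'
    obtain ⟨r, rfl⟩ := hU x hx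
    by_cases hr : r = 0
    · rw [hr, PLocalB.upper_zero]; rfl
    exfalso
    have h1 : r / s ∈ W := by
      show mk (upper (r / s * s)) ∈ clo H (mk (upper s))
      rw [div_mul_cancel₀ r hs]; exact hx
    have h2 : r / (z * s) ∈ W := by
      show mk (upper (r / (z * s) * s)) ∈ clo H (mk (upper s))
      refine (hscale z _ hz0).1 ?_
      rwa [show z * (r / (z * s) * s) = r by field_simp]
    have h3 := hmul _ h1 _ (hinv _ h2 (div_ne_zero hr (mul_ne_zero hz0 hs)))
    rw [show r / s * (r / (z * s))⁻¹ = z by field_simp] at h3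
    exact hz h3
  · intro hg
    have h1 : (1 + z)⁻¹ ∈ W := by
      show mk (upper ((1 + z)⁻¹ * s)) ∈ clo H (mk (upper s))
      refine (hscale (1 + z) _ hz1).1 ?_
      rwa [show (1 + z) * ((1 + z)⁻¹ * s) = s by field_simp]
    have h2 := hinv _ h1 (inv_ne_zero hz1)
    rw [inv_inv] at h2
    have h3 := hadd _ hone _ h2
    rw [show 1 + (1 + z) = z by linear_combination (CharTwo.two_eq_zero (R := F))] at h3
    exact hz h3

end Cfsg.Agent.MaxSub.BinaryPSL
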