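import Cfsg.Agent.MaxSub.BinaryPSL.InvData
import Cfsg.Agent.MaxSub.BinaryPSL.Uni

/-!
Consequences of Dickson's list for binary actions.
-/

set_option autoImplicit false

namespace Cfsg.Agent.MaxSub.BinaryPSL

open Matrix MulAction OnePoint
open scoped MatrixGroups
open Cfsg.Agent.Dickson (PSL2)

attribute [local instance] Cfsg.Agent.PLocalB.lineAction Cfsg.Agent.Dickson.pslLine

variable {F : Type*} [Field F]

theorem up_of_smul {y : PSL2 F} (h : y • (∞ : OnePoint F) = ∞) : Up y :=
  (Dickson.exists_upper_rep h).imp fun _ hA => hA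

/-- The centraliser of a Klein four group is itself. -/
theorem klein_cent [Fintype F] (h2 : (2 : F) ≠ 0) {g j x : PSL2 F} (hg : orderOf g = 2) (hj : orderOf j = 2)
    (hne : g ≠ j) (hgj : g * j = j * g) (hxg : x * g = g * x) (hxj : x * j = j * x) :
    x = 1 ∨ x = g ∨ x = j ∨ x = g * j := by
  obtain ⟨A, rfl, hA⟩ := Dickson.lift_two hg
  obtain ⟨B, rfl, hB⟩ := Dickson.lift_two hj
  obtain ⟨Y, rfl⟩ := QuotientGroup.mk_surjective x
  have inv2 : ∀ {u : PSL2 F}, orderOf u = 2 → u⁻¹ = u := fun {u} h =>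
    inv_eq_of_mul_eq_one_right (by
      have := pow_orderOf_eq_one u
      rwa [h, sq] at this)
  have hAB : A * B ≠ B * A := by
    intro h
    have h4 : (A : Matrix (Fin 2) (Fin 2) F).trace ^ 2 ≠ 4 := by
      rw [show (A : Matrix (Fin 2) (Fin 2) F).trace = 0 from hA]
      intro e
      exact mul_ne_zero h2 h2 (by linear_combination -e)
    rcases eq_or_inv_of_commute h4 ((show _ = (0 : F) from hB).trans (show (0 : F) = _ from hA.symm)) h
      with e | e
    · exact hne (by rw [e])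
    · exact hne (by rw [e, QuotientGroup.mk_inv, inv2 hg])
  have hAB' : A * B = -(B * A) := (Dickson.mk_eq_mk_iff.1 hgj).resolve_left hAB
  have hg1 : ∀ Z : SL(2, F), A * Z = Z * A → B * Z = Z * B → mk Z = 1 := fun Z h h' =>
    mk_eq_one_of_commute hAB h h'
  have ca : Y * A = A * Y ∨ Y * A = -(A * Y) := Dickson.mk_eq_mk_iff.1 hxg
  have cb : Y * B = B * Y ∨ Y * B = -(B * Y) := Dickson.mk_eq_mk_iff.1 hxj
  rcases ca with ea | ea <;> rcases cb with eb | eb
  · exact Or.inl (hg1 Y ea.symm eb.symm)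
  · refine Or.inr (Or.inl ?_)
    have := hg1 (A * Y) (by rw [mul_assoc, ea]) (by
      rw [← mul_assoc, show B * A = -(A * B) by rw [hAB', neg_neg], neg_mul, mul_assoc,
        show B * Y = -(Y * B) by rw [eb, neg_neg], mul_neg, neg_neg, mul_assoc])
    exact (eq_inv_of_mul_eq_one_right this).trans (inv2 hg)
  · refine Or.inr (Or.inr (Or.inl ?_))
    have := hg1 (B * Y) (by
      rw [← mul_assoc, hAB', neg_mul, mul_assoc,
        show A * Y = -(Y * A) by rw [ea, neg_neg], mul_neg, neg_neg, mul_assoc])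
      (by rw [mul_assoc, eb])
    exact (eq_inv_of_mul_eq_one_right this).trans (inv2 hj)
  · refine Or.inr (Or.inr (Or.inr ?_))
    have hAY : A * Y = -(Y * A) := by rw [ea, neg_neg]
    have hBY : B * Y = -(Y * B) := by rw [eb, neg_neg]
    have hBA : B * A = -(A * B) := by rw [hAB', neg_neg]
    have := hg1 (A * B * Y) (by
      rw [mul_assoc (A * B) Y A, ea, mul_neg, mul_assoc A B (A * Y), ← mul_assoc B A Y, hBA,
        neg_mul, mul_neg, neg_neg])
      (by
        rw [mul_assoc (A * B) Y B, eb, mul_neg, ← mul_assoc (A * B) B Y, ← mul_assoc B (A * B) Y,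
          ← mul_assoc B A B, hBA, neg_mul, neg_mul])
    have h' : mk A * mk B * mk Y = 1 := this
    refine (eq_inv_of_mul_eq_one_right h').trans ?_
    rw [_root_.mul_inv_rev, inv2 hg, inv2 hj]
    exact hgj.symm

variable [Fintype F]

theorem over_cent {g r : PSL2 F} {n : ℕ} (hd : InvData g r n)
    {M : Subgroup (PSL2 F)} (hM : M ≠ ⊤) (hle : Cent g ≤ M) :
    M ≤ Cent g ∨ (Nat.card M = 24 ∧ n = 4) := by
  obtain ⟨p, hp⟩ := CharP.exists F
  obtain ⟨k, hpp, -⟩ := FiniteField.card F p
  haveI := Fact.mk hpp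
  have hrM : r ∈ M := hle hd.mem
  have hr := hd.order
  have h4 := hd.four
  have hev := hd.even
  obtain ⟨j, hj, -, hjr⟩ := hd.refl
  have hjM : j ∈ M := hle hj
  rcases Dickson.kind' p M with ⟨k, -, hcyc, -⟩ | ⟨t, ht⟩ | ⟨m, -, -, ⟨e⟩⟩ | h | h | h | ⟨T, hT⟩
  · exfalso
    haveI := hcyc
    let _ := IsCyclic.commGroup (α := M)
    exact hjr (congrArg Subtype.val (mul_comm (⟨j, hjM⟩ : M) ⟨r, hrM⟩))
  · exfalso
    obtain ⟨x, hx, hne⟩ := hd.moving (t⁻¹ • (∞ : OnePoint F))
    apply hne
    have := ht x (hle hx)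
    rw [mul_smul, mul_smul] at this
    exact (eq_inv_smul_iff.2 this)
  · left
    obtain ⟨i, hi⟩ : ∃ i, e ⟨r, hrM⟩ = DihedralGroup.r i := by
      rcases hx : e ⟨r, hrM⟩ with i | i
      · exact ⟨i, rfl⟩
      · exfalso
        have h2 : orderOf (e ⟨r, hrM⟩) = 2 := by rw [hx]; exact DihedralGroup.orderOf_sr i
        rw [MulEquiv.orderOf_eq, Subgroup.orderOf_mk, hr] at h2
        omega
    have hgM : g ∈ M := hd.pow ▸ pow_mem hrM _
    have hge : e ⟨g, hgM⟩ = DihedralGroup.r (((n / 2 : ℕ) : ZMod m) * i) := by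
      have : (⟨g, hgM⟩ : M) = ⟨r, hrM⟩ ^ (n / 2) := Subtype.ext hd.pow.symm
      rw [this, map_pow, hi, DihedralGroup.r_pow]
      congr 1
      exact mul_comm _ _
    have hii : ((n / 2 : ℕ) : ZMod m) * i + (n / 2 : ℕ) * i = 0 := by
      have h1 : e ⟨r, hrM⟩ ^ n = 1 := by
        rw [← map_pow]
        have : (⟨r, hrM⟩ : M) ^ n = 1 := Subtype.ext (by simp [← hr, pow_orderOf_eq_one])
        rw [this, map_one]
      rw [hi, DihedralGroup.r_pow, DihedralGroup.one_def, DihedralGroup.r.injEq] at h1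
      obtain ⟨c, rfl⟩ := hev
      rw [show (c + c) / 2 = c by omega]
      push_cast at h1
      linear_combination h1
    intro x hx
    rw [mem_cent]
    have : e ⟨x, hx⟩ * e ⟨g, hgM⟩ = e ⟨g, hgM⟩ * e ⟨x, hx⟩ := by
      rw [hge]
      rcases e ⟨x, hx⟩ with u | u
      · rw [DihedralGroup.r_mul_r, DihedralGroup.r_mul_r, add_comm]
      · rw [DihedralGroup.sr_mul_r, DihedralGroup.r_mul_sr]
        congr 1
        linear_combination hii
    rw [← map_mul, ← map_mul] at this
    exact congrArg Subtype.val (e.injective this)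
  · exfalso
    rcases Dickson.orderOf_A4 h hrM with hh | hh <;> rw [hr] at hh <;>
      have := Nat.le_of_dvd (by norm_num) hh <;> omega
  · right
    refine ⟨(Nat.card_congr h.some.toEquiv).trans Dickson.card_S4, ?_⟩
    rcases Dickson.orderOf_S4 h hrM with hh | hh <;> rw [hr] at hh <;>
      have := Nat.le_of_dvd (by norm_num) hh <;> omega
  · exfalso
    have hle5 : n ≤ 5 := by
      rcases Dickson.orderOf_A5 h hrM with hh | hh | hh <;> rw [hr] at hh <;>
        have := Nat.le_of_dvd (by norm_num) hh <;> omega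
    obtain rfl : n = 4 := by obtain ⟨c, rfl⟩ := hev; omega
    rcases Dickson.orderOf_A5 h hrM with hh | hh | hh <;> rw [hr] at hh <;> norm_num at hh
  · right
    obtain ⟨m, hm2, hmq, ht2⟩ := Dickson.big_proper hT hM
    have hord := hT.2.2.2.1 r hrM
    rw [hr] at hord
    have ht3 := hT.1
    have hb := hd.bound
    have ht : Nat.card T = 3 := by
      have hsq : Nat.card T * Nat.card T ≤ 2 * Nat.card T + 3 := by rw [← sq]; omega
      by_contra hne
      have : 4 * Nat.card T ≤ Nat.card T * Nat.card T := Nat.mul_le_mul_right _ (by omega)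
      omega
    have hn4 : n = 4 := by omega
    refine ⟨?_, hn4⟩
    have hdvd := Subgroup.card_dvd_of_le hle
    rw [hd.card, hn4] at hdvd
    rcases Dickson.card_big hT with ⟨hc, -⟩ | ⟨hc, -⟩ <;> rw [ht] at hc <;> norm_num at hc
    · omega
    · exact hc

/-- A `p'`-group of odd order in `PSL₂` is abelian. -/
theorem comm_of_odd (p : ℕ) [Fact p.Prime] [CharP F p] (H : Subgroup (PSL2 F))
    (hp : ¬ p ∣ Nat.card H) (hodd : Odd (Nat.card H)) :
    ∀ a ∈ H, ∀ b ∈ H, a * b = b * a := by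
  have hne2 : ¬ 2 ∣ Nat.card H := by rw [← even_iff_two_dvd]; exact Nat.not_even_iff_odd.2 hodd
  intro a ha b hb
  rcases Dickson.kind' p H with ⟨k, -, hcyc, -⟩ | ⟨t, ht⟩ | ⟨m, hm, -, ⟨e⟩⟩ | h | h | h | ⟨T, hT⟩
  · haveI := hcyc
    let _ := IsCyclic.commGroup (α := H)
    exact congrArg Subtype.val (mul_comm (⟨a, ha⟩ : H) ⟨b, hb⟩)
  · obtain ⟨A, hA, hA10⟩ := Dickson.exists_upper_rep (ht a ha)
    obtain ⟨B, hB, hB10⟩ := Dickson.exists_upper_rep (ht b hb)
    have key : mk (A * B * A⁻¹ * B⁻¹) = 1 := by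
      have dA := (det_fin_two _).symm.trans A.2
      have dB := (det_fin_two _).symm.trans B.2
      rw [hA10] at dA
      rw [hB10] at dB
      set C := A * B * A⁻¹ * B⁻¹ with hC
      have c10 : C 1 0 = 0 := by
        rw [hC]; simp [Matrix.mul_apply, Fin.sum_univ_two, hA10, hB10,
          Matrix.SpecialLinearGroup.coe_inv, Matrix.adjugate_fin_two]
      have c00 : C 0 0 = 1 := by
        rw [hC]; simp [Matrix.mul_apply, Fin.sum_univ_two, hA10, hB10,
          Matrix.SpecialLinearGroup.coe_inv, Matrix.adjugate_fin_two]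
        linear_combination (B 0 0 * B 1 1) * dA + dB
      obtain ⟨r, hr⟩ := inU_of_diag c10 (by rw [c00, one_pow])
      have hpow : mk C ^ p = 1 := by
        rw [hr, ← QuotientGroup.mk_pow, PLocalB.upper_pow, CharP.cast_eq_zero, zero_mul,
          PLocalB.upper_zero]
        rfl
      have hmem : t⁻¹ * mk C * t ∈ H := by
        rw [hC]
        simp only [mk_mul, mk_inv]
        rw [show mk A = t * a * t⁻¹ from hA, show mk B = t * b * t⁻¹ from hB]
        have := H.mul_mem (H.mul_mem (H.mul_mem ha hb) (H.inv_mem ha)) (H.inv_mem hb)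
        convert this using 1
        group
      have h1 : (t⁻¹ * mk C * t) ^ p = 1 := by
        have := conj_pow (i := p) (a := t⁻¹) (b := mk C)
        rw [inv_inv] at this
        rw [this, hpow]; group
      rcases (Fact.out : p.Prime).eq_one_or_self_of_dvd _ (orderOf_dvd_of_pow_eq_one h1) with e | e
      · rw [orderOf_eq_one_iff] at e
        simpa [mul_assoc] using congrArg (fun x => t * x * t⁻¹) e
      · refine absurd ?_ hp
        rw [← e]
        exact (Subgroup.orderOf_mk _ hmem).symm ▸ orderOf_dvd_natCard (⟨_, hmem⟩ : H)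
    simp only [mk_mul, mk_inv] at key
    rw [show mk A = t * a * t⁻¹ from hA, show mk B = t * b * t⁻¹ from hB] at key
    have : a * b * a⁻¹ * b⁻¹ = 1 := by
      have := congrArg (fun x => t⁻¹ * x * t) key
      simpa [mul_assoc] using this
    rwa [mul_inv_eq_one, mul_inv_eq_iff_eq_mul] at this
  · exact absurd (by rw [Nat.card_congr e.toEquiv, DihedralGroup.nat_card]; exact dvd_mul_right 2 _) hne2
  · exact absurd (by rw [Nat.card_congr h.some.toEquiv, Dickson.card_A4]; norm_num) hne2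
  · exact absurd (by rw [Nat.card_congr h.some.toEquiv, Dickson.card_S4]; norm_num) hne2
  · exact absurd (by rw [Nat.card_congr h.some.toEquiv, Dickson.card_A5]; norm_num) hne2
  · exfalso
    obtain ⟨k, -, hq⟩ := FiniteField.card F p
    obtain ⟨m, hm, hmq⟩ := hT.2.1
    have hpt : p ∣ Nat.card T := (Fact.out : p.Prime).dvd_of_dvd_pow
      (n := m) (by rw [hmq, hq]; exact dvd_pow_self p k.pos.ne')
    rcases Dickson.card_big hT with ⟨hc, -⟩ | ⟨hc, -⟩
    · have : p ∣ Nat.gcd 2 (Nat.card T - 1) * Nat.card H := hc ▸ dvd_mul_of_dvd_left hpt _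
      rcases (Nat.Prime.dvd_mul Fact.out).1 this with h | h
      · have h1 := Nat.dvd_sub hpt (h.trans (Nat.gcd_dvd_right _ _))
        rw [Nat.sub_sub_self (Nat.card_pos (α := T))] at h1
        exact (Fact.out : p.Prime).ne_one (Nat.dvd_one.1 h1)
      · exact hp h
    · exact hp (hc ▸ dvd_mul_of_dvd_left hpt _)

end Cfsg.Agent.MaxSub.BinaryPSL
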