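import Cfsg.Agent.MaxSub.BinaryPSL.Basic
import Cfsg.Agent.SL2Tor.PSL

/-!
Semisimple elements with small closure give non-binary actions.
-/

set_option autoImplicit false

namespace Cfsg.Agent.MaxSub.BinaryPSL

open Matrix
open scoped MatrixGroups
open Cfsg.Agent.PLocalB (upper lower)
open Cfsg.Agent.Dickson (PSL2)

variable {F : Type*} [Field F] [Fintype F]

/-- A triangle in one semisimple class. -/
theorem exists_triangle (A : SL(2, F)) (h4 : (A : Matrix (Fin 2) (Fin 2) F).trace ^ 2 ≠ 4)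
    (hw : (A : Matrix (Fin 2) (Fin 2) F).trace ≠ -1 ∨ ∃ w : F, w ^ 2 + w + 1 = 0) :
    ∃ u v : SL(2, F), A = (u * A * u⁻¹) * (v * A * v⁻¹) ∧
      A * (u * A * u⁻¹) ≠ (u * A * u⁻¹) * A := by
  by_cases ht : (A : Matrix (Fin 2) (Fin 2) F).trace = -1
  · obtain ⟨w, hw⟩ := hw.resolve_left (not_not.2 ht)
    have h3 : w ^ 3 = 1 := by linear_combination (w - 1) * hw
    obtain ⟨D, hD⟩ : ∃ D : SL(2, F), (D : Matrix (Fin 2) (Fin 2) F) = !![w, 0; 0, w ^ 2] :=
      ⟨⟨_, by rw [det_fin_two_of]; linear_combination h3⟩, rfl⟩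
    obtain ⟨B, hB⟩ : ∃ B : SL(2, F), (B : Matrix (Fin 2) (Fin 2) F) = !![w ^ 2, 1; 0, w] :=
      ⟨⟨_, by rw [det_fin_two_of]; linear_combination h3⟩, rfl⟩
    obtain ⟨C, hC⟩ : ∃ C : SL(2, F), (C : Matrix (Fin 2) (Fin 2) F) = !![w ^ 2, -w ^ 2; 0, w] :=
      ⟨⟨_, by rw [det_fin_two_of]; linear_combination h3⟩, rfl⟩
    obtain ⟨s, hs⟩ := exists_conj (A := D) (B := A)
      (by rw [ht, hD, trace_fin_two_of]; linear_combination hw)
      (by rw [hD, trace_fin_two_of, show w + w ^ 2 = -1 by linear_combination hw]; rwa [← ht])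
    obtain ⟨u, hu⟩ := exists_conj (A := A) (B := s * B * s⁻¹)
      (by rw [SL2Tor.trace_conj, ht, hB, trace_fin_two_of]; linear_combination -hw) h4
    obtain ⟨v, hv⟩ := exists_conj (A := A) (B := s * C * s⁻¹)
      (by rw [SL2Tor.trace_conj, ht, hC, trace_fin_two_of]; linear_combination -hw) h4
    have hBC : B * C = D := Subtype.ext (by
      rw [Matrix.SpecialLinearGroup.coe_mul, hB, hC, hD]
      ext i j
      fin_cases i <;> fin_cases j <;> simp [Matrix.mul_apply, Fin.sum_univ_two] <;>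
        first
          | linear_combination w * h3
          | linear_combination (-w) * h3
          | linear_combination (0 : F) * h3)
    refine ⟨u, v, by rw [hu, hv, ← hs, ← hBC]; group, fun h => ?_⟩
    rw [hu, ← hs] at h
    have h' : s * (D * B) * s⁻¹ = s * (B * D) * s⁻¹ := by
      calc _ = s * D * s⁻¹ * (s * B * s⁻¹) := by group
        _ = _ := h
        _ = _ := by group
    have h01 := congrArg (fun M : SL(2, F) => M 0 1) (mul_left_cancel (mul_right_cancel h'))
    simp [Matrix.mul_apply, Fin.sum_univ_two, hD, hB] at h01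
    refine h4 ?_
    have hw1 : w = 1 := by linear_combination (-(w ^ 2)) * h01 + (1 - w) * h3
    rw [ht]
    rw [hw1] at hw
    linear_combination -hw
  · obtain ⟨u, v, huv⟩ := SL2Tor.hit_of_trace A A h4 h4
    refine ⟨u, v, huv, fun h => ?_⟩
    rcases eq_or_inv_of_commute h4 (SL2Tor.trace_conj u A) h with e | e
    · rw [e] at huv
      have hv1 := left_eq_mul.1 huv
      rw [conj_eq_one_iff.1 hv1] at h4
      norm_num [Matrix.trace_fin_two] at h4
    · have hvv : v * A * v⁻¹ = A * A := by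
        rw [e, eq_inv_mul_iff_mul_eq] at huv
        exact huv.symm
      have htr := SL2Tor.trace_conj v A
      rw [hvv, Matrix.SpecialLinearGroup.coe_mul, SL2Tor.two_sq, A.2] at htr
      simp [Matrix.trace_fin_two] at htr
      rw [trace_fin_two] at ht h4
      have : (A 0 0 + A 1 1 - 2) * (A 0 0 + A 1 1 + 1) = 0 := by linear_combination htr
      rcases mul_eq_zero.1 this with h' | h'
      · exact h4 (by linear_combination (A 0 0 + A 1 1 + 2) * h')
      · exact ht (eq_neg_of_add_eq_zero_left h')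

omit [Fintype F] in
theorem meets_conj_sl {H : Subgroup (PSL2 F)} {A : SL(2, F)} (u : SL(2, F)) (h : Meets H (mk A)) :
    Meets H (mk (u * A * u⁻¹)) := meets_conj (mk u) h

/-- The main step: a semisimple element whose closure lies in its torus. -/
theorem not_binary_semi {H : Subgroup (PSL2 F)} (A : SL(2, F))
    (h4 : (A : Matrix (Fin 2) (Fin 2) F).trace ^ 2 ≠ 4)
    (hw : (A : Matrix (Fin 2) (Fin 2) F).trace ≠ -1 ∨ ∃ w : F, w ^ 2 + w + 1 = 0)
    (hm : Meets H (mk A)) (hclo : ∀ y ∈ clo H (mk A), ∃ Y, mk Y = y ∧ A * Y = Y * A) :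
    ¬ Binary H := by
  obtain ⟨u, v, huv, hne⟩ := exists_triangle A h4 hw
  have hcl : ∀ (s : SL(2, F)) (y : PSL2 F), y ∈ clo H (mk (s * A * s⁻¹)) →
      ∃ Y, mk Y = y ∧ (s * A * s⁻¹) * Y = Y * (s * A * s⁻¹) := by
    intro s y hy
    rw [mk_conj, mem_clo_conj_iff] at hy
    obtain ⟨Y, hY, hc⟩ := hclo _ hy
    refine ⟨s * Y * s⁻¹, ?_, ?_⟩
    · rw [mk_conj, hY]; group
    · calc _ = s * (A * Y) * s⁻¹ := by group
        _ = s * (Y * A) * s⁻¹ := by rw [hc]
        _ = _ := by group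
  refine not_binary' (g := mk A) (h := mk (u * A * u⁻¹)) (k := mk (v * A * v⁻¹))
    (by rw [← mk_mul, ← huv]) hm (meets_conj_sl u hm) (meets_conj_sl v hm) ?_ ?_
  · intro x hx hx'
    obtain ⟨Y, rfl, hY⟩ := hclo x hx
    obtain ⟨Y', hY', hc⟩ := hcl u _ hx'
    refine mk_eq_one_of_commute hne hY ?_
    rcases Dickson.mk_eq_mk_iff.1 hY' with e | e <;> subst e
    · exact hc
    · simpa using hc
  · intro hg
    obtain ⟨Y, hY, hc⟩ := hcl v _ hg
    have hAC : (v * A * v⁻¹) * A = A * (v * A * v⁻¹) := by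
      rcases Dickson.mk_eq_mk_iff.1 hY with e | e <;> subst e
      · exact hc
      · simpa using hc
    have hB : u * A * u⁻¹ = A * (v * A * v⁻¹)⁻¹ := eq_mul_inv_of_mul_eq huv.symm
    apply hne
    rw [hB]
    generalize v * A * v⁻¹ = C at hAC
    have := (Commute.inv_left (show Commute C A from hAC)).eq
    rw [mul_assoc A C⁻¹ A, this]

/-- A subgroup of a Borel subgroup with a semisimple element. -/
theorem not_binary_borel {H : Subgroup (PSL2 F)} (hup : ∀ y ∈ H, Up y) (A : SL(2, F))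
    (hA : A 1 0 = 0) (hmem : mk A ∈ H) (h1 : A 0 0 ^ 2 ≠ 1) : ¬ Binary H := by
  have hd : A 0 0 * A 1 1 = 1 := by
    have := (det_fin_two _).symm.trans A.2
    rw [hA] at this; linear_combination this
  have hne : A 0 0 - A 1 1 ≠ 0 := fun e => h1 (by linear_combination A 0 0 * e + hd)
  set r := A 0 1 / (A 0 0 - A 1 1) with hr
  set D := upper r * A * (upper r)⁻¹ with hD
  have d10 : D 1 0 = 0 := by
    rw [hD]; simp [Matrix.mul_apply, Matrix.vecMul, dotProduct, Fin.sum_univ_two, hA]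
  have d00 : D 0 0 = A 0 0 := by
    rw [hD]; simp [Matrix.mul_apply, Matrix.vecMul, dotProduct, Fin.sum_univ_two, hA]
  have d11 : D 1 1 = A 1 1 := by
    rw [hD]; simp [Matrix.mul_apply, Matrix.vecMul, dotProduct, Fin.sum_univ_two, hA]
  have d01 : D 0 1 = 0 := by
    rw [hD]; simp [Matrix.mul_apply, Matrix.vecMul, dotProduct, Fin.sum_univ_two, hA]
    rw [hr]; field_simp; ring
  have htr : (D : Matrix (Fin 2) (Fin 2) F).trace = A 0 0 + A 1 1 := by rw [trace_fin_two, d00, d11]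
  have h4 : (D : Matrix (Fin 2) (Fin 2) F).trace ^ 2 ≠ 4 := fun e => hne (by
    rw [htr] at e
    exact pow_eq_zero_iff two_ne_zero |>.1 (show (A 0 0 - A 1 1) ^ 2 = 0 by
      linear_combination e - 4 * hd))
  have hw : (D : Matrix (Fin 2) (Fin 2) F).trace ≠ -1 ∨ ∃ w : F, w ^ 2 + w + 1 = 0 := by
    by_cases ht : (D : Matrix (Fin 2) (Fin 2) F).trace = -1
    · rw [htr] at ht
      exact Or.inr ⟨A 0 0, by linear_combination A 0 0 * ht - hd⟩
    · exact Or.inl ht
  have hm : Meets H (mk D) := meets_conj (mk (upper r)) (meets_of_mem hmem)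
  obtain ⟨J, hJ⟩ : ∃ J : SL(2, F), (J : Matrix (Fin 2) (Fin 2) F) = !![0, -1; 1, 0] :=
    ⟨⟨_, by simp [det_fin_two_of]⟩, rfl⟩
  have hJD : J * D * J⁻¹ = D⁻¹ := by
    rw [mul_inv_eq_iff_eq_mul]
    ext i j
    fin_cases i <;> fin_cases j <;>
      simp [Matrix.mul_apply, Fin.sum_univ_two, hJ,
        Matrix.SpecialLinearGroup.coe_inv, Matrix.adjugate_fin_two, d00, d01, d10, d11]
  refine not_binary_semi D h4 hw hm fun y hy => ?_
  obtain ⟨Y, rfl⟩ := QuotientGroup.mk_surjective y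
  have y10 : Y 1 0 = 0 := by
    have := hy (mk (upper r)) (by rw [hD, mk_conj]; simpa [mul_assoc] using hmem)
    have h' := hup _ this
    rw [← mk_inv, ← mk_mul, ← mk_mul, up_iff] at h'
    simpa [Matrix.mul_apply, Matrix.vecMul, dotProduct, Fin.sum_univ_two] using h'
  have y01 : Y 0 1 = 0 := by
    have hx : (mk (J⁻¹ * upper r))⁻¹ * mk D * mk (J⁻¹ * upper r) ∈ H := by
      have e : (J⁻¹ * upper r)⁻¹ * D * (J⁻¹ * upper r) = A⁻¹ := by
        rw [show (J⁻¹ * upper r)⁻¹ * D * (J⁻¹ * upper r) =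
          (upper r)⁻¹ * (J * D * J⁻¹) * upper r by group, hJD, hD]
        group
      rw [← mk_inv, ← mk_mul, ← mk_mul, e, mk_inv]
      exact inv_mem hmem
    have h' := hup _ (hy _ hx)
    rw [← mk_inv, ← mk_mul, ← mk_mul, up_iff] at h'
    simpa [Matrix.mul_apply, Matrix.vecMul, dotProduct, Fin.sum_univ_two, hJ,
      Matrix.SpecialLinearGroup.coe_inv, Matrix.adjugate_fin_two] using h'
  refine ⟨Y, rfl, ?_⟩
  ext i j
  fin_cases i <;> fin_cases j <;>
    simp [Matrix.mul_apply, Fin.sum_univ_two, d01, d10, d00, d11, y01, y10] <;> ring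

end Cfsg.Agent.MaxSub.BinaryPSL
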